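import Cfsg.Agent.StdRank2.L3G.Grow
import Mathlib.SetTheory.Cardinal.Finite

/-!
# The grown group `S^ = A^ B^ Z^` (no torus)

`Base F G` : root groups of `L₃(q)` and the involution `t`.  `Core E A B Z` : grown groups.
-/

set_option autoImplicit false
set_option linter.unusedSectionVars false

namespace Cfsg.Agent.StdRank2.L3G

open Subgroup

variable (F : Type*) [Field F] [CharP F 2] (G : Type*) [Group G]

/-- Root groups and `t`. -/
structure Base where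
  xa : F → G
  xb : F → G
  xc : F → G
  t : G
  xa_add : ∀ x y, xa (x + y) = xa x * xa y
  xb_add : ∀ x y, xb (x + y) = xb x * xb y
  xc_add : ∀ x y, xc (x + y) = xc x * xc y
  c_a : ∀ x y, xc x * xa y = xa y * xc x
  c_b : ∀ x y, xc x * xb y = xb y * xc x
  a_b : ∀ x y, xa x * xb y = xc (x * y) * (xb y * xa x)
  u_inj : ∀ x y z, xa x * xb y * xc z = 1 → x = 0 ∧ y = 0 ∧ z = 0
  t_sq : t * t = 1
  t_a : ∀ x, t * xa x = xa x * t
  t_b : ∀ x, t * xb x = xb x * t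
  t_c : ∀ x, t * xc x = xc x * t
  t_not : ∀ x y z, t ≠ xa x * xb y * xc z

variable {F G}

/-- The grown groups. -/
structure Core (E : Base F G) (A B Z : Subgroup G) : Prop where
  memA : ∀ c, E.xa c ∈ A
  memB : ∀ c, E.xb c ∈ B
  memZ : ∀ c, E.xc c ∈ Z
  A_sq : ∀ g ∈ A, g * g = 1
  B_sq : ∀ g ∈ B, g * g = 1
  Z_sq : ∀ g ∈ Z, g * g = 1
  Z_A : ∀ g ∈ Z, ∀ k ∈ A, g * k = k * g
  Z_B : ∀ g ∈ Z, ∀ k ∈ B, g * k = k * g
  A_B : ∀ g ∈ A, ∀ k ∈ B, g * k * g⁻¹ * k⁻¹ ∈ Z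
  conjA : ∀ g ∈ A, ∃ c, g * E.t * g⁻¹ = E.xa c * E.t
  conjB : ∀ g ∈ B, ∃ c, g * E.t * g⁻¹ = E.xb c * E.t
  conjZ : ∀ g ∈ Z, ∃ c, g * E.t * g⁻¹ = E.xc c * E.t
  ontoA : ∀ c, ∃ g ∈ A, g * E.t * g⁻¹ = E.xa c * E.t
  ontoB : ∀ c, ∃ g ∈ B, g * E.t * g⁻¹ = E.xb c * E.t
  ontoZ : ∀ c, ∃ g ∈ Z, g * E.t * g⁻¹ = E.xc c * E.t
  centA : ∀ g ∈ A, g * E.t = E.t * g → ∃ c, g = E.xa c
  centB : ∀ g ∈ B, g * E.t = E.t * g → ∃ c, g = E.xb c
  centZ : ∀ g ∈ Z, g * E.t = E.t * g → ∃ c, g = E.xc c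

/-- The base of an environment. -/
@[simps]
def Env.base (E : Env F G) : Base F G where
  xa := E.xa
  xb := E.xb
  xc := E.xc
  t := E.t
  xa_add := E.xa_add
  xb_add := E.xb_add
  xc_add := E.xc_add
  c_a := E.c_a
  c_b := E.c_b
  a_b := E.a_b
  u_inj := E.u_inj
  t_sq := E.t_sq
  t_a := E.t_a
  t_b := E.t_b
  t_c := E.t_c
  t_not := E.t_not

theorem Grown.core {E : Env F G} {A B Z : Subgroup G} (h : Grown E A B Z) : Core E.base A B Z where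
  memA := h.rootA.mem
  memB := h.rootB.mem
  memZ := h.rootZ.mem
  A_sq := h.A_sq
  B_sq := h.B_sq
  Z_sq := h.Z_sq
  Z_A := h.Z_A
  Z_B := h.Z_B
  A_B := h.A_B
  conjA := h.rootA.conj_t
  conjB := h.rootB.conj_t
  conjZ := h.rootZ.conj_t
  ontoA := h.rootA.onto
  ontoB := h.rootB.onto
  ontoZ := h.rootZ.onto
  centA := h.rootA.cent
  centB := h.rootB.cent
  centZ := h.rootZ.cent

namespace Base

variable (E : Base F G)

theorem xa_zero : E.xa 0 = 1 := hom_zero E.xa_add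
theorem xb_zero : E.xb 0 = 1 := hom_zero E.xb_add
theorem xc_zero : E.xc 0 = 1 := hom_zero E.xc_add

theorem xa_sq (x : F) : E.xa x * E.xa x = 1 := by
  rw [← E.xa_add, CharTwo.add_self_eq_zero, xa_zero]
theorem xb_sq (x : F) : E.xb x * E.xb x = 1 := by
  rw [← E.xb_add, CharTwo.add_self_eq_zero, xb_zero]
theorem xc_sq (x : F) : E.xc x * E.xc x = 1 := by
  rw [← E.xc_add, CharTwo.add_self_eq_zero, xc_zero]

theorem xa_inv (x : F) : (E.xa x)⁻¹ = E.xa x := inv_of_sq (E.xa_sq x)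
theorem xb_inv (x : F) : (E.xb x)⁻¹ = E.xb x := inv_of_sq (E.xb_sq x)
theorem xc_inv (x : F) : (E.xc x)⁻¹ = E.xc x := inv_of_sq (E.xc_sq x)
theorem t_inv : E.t⁻¹ = E.t := inv_of_sq E.t_sq

theorem xa_eq_one {x : F} (h : E.xa x = 1) : x = 0 :=
  (E.u_inj x 0 0 (by rw [xb_zero, xc_zero, mul_one, mul_one, h])).1

theorem xb_eq_one {x : F} (h : E.xb x = 1) : x = 0 :=
  (E.u_inj 0 x 0 (by rw [xa_zero, xc_zero, mul_one, one_mul, h])).2.1

theorem xc_eq_one {x : F} (h : E.xc x = 1) : x = 0 :=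
  (E.u_inj 0 0 x (by rw [xa_zero, xb_zero, one_mul, one_mul, h])).2.2

theorem xa_inj {x y : F} (h : E.xa x = E.xa y) : x = y := by
  apply Env.add_eq_zero'
  apply E.xa_eq_one
  rw [E.xa_add, h, E.xa_sq]

theorem xb_inj {x y : F} (h : E.xb x = E.xb y) : x = y := by
  apply Env.add_eq_zero'
  apply E.xb_eq_one
  rw [E.xb_add, h, E.xb_sq]

theorem xc_inj {x y : F} (h : E.xc x = E.xc y) : x = y := by
  apply Env.add_eq_zero'
  apply E.xc_eq_one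
  rw [E.xc_add, h, E.xc_sq]

/-- The swapped base. -/
@[simps]
def swap : Base F G where
  xa := E.xb
  xb := E.xa
  xc := E.xc
  t := E.t
  xa_add := E.xb_add
  xb_add := E.xa_add
  xc_add := E.xc_add
  c_a := E.c_b
  c_b := E.c_a
  a_b x y := by
    have h := E.a_b y x
    have h1 : E.xc (x * y) * (E.xc (y * x) * (E.xb x * E.xa y)) = E.xb x * E.xa y := by
      rw [← mul_assoc, mul_comm x y, E.xc_sq, one_mul]
    rw [h, h1]
  u_inj x y z h := by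
    have h1 : E.xa y * E.xb x * E.xc (y * x + z) = 1 := by
      rw [E.a_b, E.xc_add]
      have h2 : E.xc (y * x) * (E.xb x * E.xa y) * (E.xc (y * x) * E.xc z)
          = E.xc (y * x) * ((E.xb x * E.xa y) * E.xc z) * E.xc (y * x) := by
        rw [← E.xc_add, add_comm (y * x) z, E.xc_add]
        simp only [mul_assoc]
      rw [h2, h, mul_one, E.xc_sq]
    obtain ⟨h3, h4, h5⟩ := E.u_inj y x _ h1
    subst h3 h4
    refine ⟨rfl, rfl, ?_⟩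
    simpa using h5
  t_sq := E.t_sq
  t_a := E.t_b
  t_b := E.t_a
  t_c := E.t_c
  t_not x y z h := by
    refine E.t_not y x (y * x + z) ?_
    rw [h, E.a_b, E.xc_add]
    have h2 : E.xc (y * x) * (E.xb x * E.xa y) * (E.xc (y * x) * E.xc z)
        = (E.xc (y * x) * E.xc (y * x)) * ((E.xb x * E.xa y) * E.xc z) := by
      have h3 : (E.xb x * E.xa y) * E.xc (y * x) = E.xc (y * x) * (E.xb x * E.xa y) := by
        rw [mul_assoc, ← E.c_a, ← mul_assoc, ← E.c_b, mul_assoc]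
      calc E.xc (y * x) * (E.xb x * E.xa y) * (E.xc (y * x) * E.xc z)
          = E.xc (y * x) * ((E.xb x * E.xa y) * E.xc (y * x)) * E.xc z := by
            simp only [mul_assoc]
        _ = _ := by rw [h3]; simp only [mul_assoc]
    rw [h2, E.xc_sq, one_mul]

/-- `E₁ = X_a X_c`. -/
def E1 : Subgroup G where
  carrier := {g | ∃ x z, g = E.xa x * E.xc z}
  mul_mem' := by
    rintro _ _ ⟨x, z, rfl⟩ ⟨x', z', rfl⟩
    refine ⟨x + x', z + z', ?_⟩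
    rw [E.xa_add, E.xc_add]
    calc E.xa x * E.xc z * (E.xa x' * E.xc z') = E.xa x * (E.xc z * E.xa x') * E.xc z' := by group
      _ = _ := by rw [E.c_a]; group
  one_mem' := ⟨0, 0, by rw [E.xa_zero, E.xc_zero, one_mul]⟩
  inv_mem' := by
    rintro _ ⟨x, z, rfl⟩
    refine ⟨x, z, ?_⟩
    rw [mul_inv_rev, E.xa_inv, E.xc_inv, E.c_a]

theorem mem_E1 {g : G} : g ∈ E.E1 ↔ ∃ x z, g = E.xa x * E.xc z := Iff.rfl

/-- `E₂ = X_b X_c`. -/
def E2 : Subgroup G := E.swap.E1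

theorem mem_E2 {g : G} : g ∈ E.E2 ↔ ∃ x z, g = E.xb x * E.xc z := Iff.rfl

/-- `U = X_a X_b X_c`. -/
def U : Subgroup G where
  carrier := {g | ∃ x y z, g = E.xa x * E.xb y * E.xc z}
  mul_mem' := by
    rintro _ _ ⟨x, y, z, rfl⟩ ⟨x', y', z', rfl⟩
    refine ⟨x + x', y + y', z + z' + x' * y, ?_⟩
    rw [E.xa_add, E.xb_add, E.xc_add, E.xc_add]
    have h1 : E.xb y * E.xa x' = E.xa x' * E.xb y * E.xc (x' * y) := by
      rw [E.a_b]
      have h3 : (E.xb y * E.xa x') * E.xc (x' * y) = E.xc (x' * y) * (E.xb y * E.xa x') := by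
        rw [mul_assoc, ← E.c_a, ← mul_assoc, ← E.c_b, mul_assoc]
      rw [mul_assoc, h3, ← mul_assoc, E.xc_sq, one_mul]
    have h2 : ∀ u v, E.xc u * E.xc v = E.xc v * E.xc u := fun u v => by
      rw [← E.xc_add, add_comm, E.xc_add]
    calc E.xa x * E.xb y * E.xc z * (E.xa x' * E.xb y' * E.xc z')
        = E.xa x * E.xb y * (E.xc z * E.xa x') * E.xb y' * E.xc z' := by group
      _ = E.xa x * (E.xb y * E.xa x') * (E.xc z * E.xb y') * E.xc z' := by rw [E.c_a]; group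
      _ = E.xa x * E.xa x' * E.xb y * (E.xc (x' * y) * E.xb y') * (E.xc z * E.xc z') := by
        rw [h1, E.c_b]; group
      _ = E.xa x * E.xa x' * (E.xb y * E.xb y') * (E.xc (x' * y) * (E.xc z * E.xc z')) := by
        rw [E.c_b]; group
      _ = _ := by rw [← E.xc_add z, h2]
  one_mem' := ⟨0, 0, 0, by rw [E.xa_zero, E.xb_zero, E.xc_zero, one_mul, one_mul]⟩
  inv_mem' := by
    rintro _ ⟨x, y, z, rfl⟩
    refine ⟨x, y, z + x * y, ?_⟩
    symm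
    apply eq_inv_of_mul_eq_one_right
    have h1 : E.xc z * (E.xa x * E.xb y) = (E.xa x * E.xb y) * E.xc z := by
      rw [← mul_assoc, E.c_a, mul_assoc, E.c_b, mul_assoc]
    have h2 : (E.xa x * E.xb y) * (E.xa x * E.xb y) = E.xc (x * y) := by
      have h5 : E.xb y * E.xa x * E.xa x * E.xb y = 1 := by
        rw [mul_assoc (E.xb y), E.xa_sq, mul_one, E.xb_sq]
      calc (E.xa x * E.xb y) * (E.xa x * E.xb y) = E.xc (x * y) * (E.xb y * E.xa x) * (E.xa x * E.xb y) := by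
            rw [← E.a_b]
        _ = E.xc (x * y) * (E.xb y * E.xa x * E.xa x * E.xb y) := by group
        _ = _ := by rw [h5, mul_one]
    calc E.xa x * E.xb y * E.xc z * (E.xa x * E.xb y * E.xc (z + x * y))
        = E.xa x * E.xb y * (E.xc z * (E.xa x * E.xb y)) * E.xc (z + x * y) := by group
      _ = ((E.xa x * E.xb y) * (E.xa x * E.xb y)) * (E.xc z * E.xc (z + x * y)) := by rw [h1]; group
      _ = 1 := by
        rw [h2, E.xc_add, ← mul_assoc (E.xc z), E.xc_sq, one_mul, E.xc_sq]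

theorem mem_U {g : G} : g ∈ E.U ↔ ∃ x y z, g = E.xa x * E.xb y * E.xc z := Iff.rfl

end Base

namespace Core

variable {E : Base F G} {A B Z : Subgroup G} (C : Core E A B Z)
include C

theorem comm_of_sq' {H : Subgroup G} (h : ∀ g ∈ H, g * g = 1) {a b : G} (ha : a ∈ H) (hb : b ∈ H) :
    a * b = b * a := by
  have h1 := h _ (H.mul_mem ha hb)
  have h2 : a * b = (a * b)⁻¹ := (inv_of_sq h1).symm
  rw [h2, mul_inv_rev, inv_of_sq (h a ha), inv_of_sq (h b hb)]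

theorem swap : Core E.swap B A Z where
  memA := C.memB
  memB := C.memA
  memZ := C.memZ
  A_sq := C.B_sq
  B_sq := C.A_sq
  Z_sq := C.Z_sq
  Z_A := C.Z_B
  Z_B := C.Z_A
  A_B g hg k hk := by
    have h := Z.inv_mem (C.A_B k hk g hg)
    have e : (k * g * k⁻¹ * g⁻¹)⁻¹ = g * k * g⁻¹ * k⁻¹ := by group
    rwa [e] at h
  conjA := C.conjB
  conjB := C.conjA
  conjZ := C.conjZ
  ontoA := C.ontoB
  ontoB := C.ontoA
  ontoZ := C.ontoZ
  centA := C.centB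
  centB := C.centA
  centZ := C.centZ

theorem A_comm {a b : G} (ha : a ∈ A) (hb : b ∈ A) : a * b = b * a := comm_of_sq' C C.A_sq ha hb
theorem B_comm {a b : G} (ha : a ∈ B) (hb : b ∈ B) : a * b = b * a := comm_of_sq' C C.B_sq ha hb
theorem Z_comm {a b : G} (ha : a ∈ Z) (hb : b ∈ Z) : a * b = b * a := comm_of_sq' C C.Z_sq ha hb

theorem b_a {a b : G} (ha : a ∈ A) (hb : b ∈ B) : ∃ z ∈ Z, b * a = a * b * z := by
  refine ⟨b⁻¹ * a⁻¹ * b * a, ?_, by group⟩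
  have h := Z.inv_mem (C.A_B a⁻¹ (A.inv_mem ha) b⁻¹ (B.inv_mem hb))
  have e : (a⁻¹ * b⁻¹ * a⁻¹⁻¹ * b⁻¹⁻¹)⁻¹ = b⁻¹ * a⁻¹ * b * a := by group
  rwa [e] at h

/-- The grown group. -/
def Sh : Subgroup G where
  carrier := {g | ∃ a ∈ A, ∃ b ∈ B, ∃ z ∈ Z, g = a * b * z}
  mul_mem' := by
    rintro _ _ ⟨a, ha, b, hb, z, hz, rfl⟩ ⟨a', ha', b', hb', z', hz', rfl⟩
    obtain ⟨z1, hz1, h1⟩ := C.b_a ha' hb
    refine ⟨a * a', A.mul_mem ha ha', b * b', B.mul_mem hb hb', z1 * (z * z'),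
      Z.mul_mem hz1 (Z.mul_mem hz hz'), ?_⟩
    calc a * b * z * (a' * b' * z') = a * b * (z * a') * b' * z' := by group
      _ = a * (b * a') * (z * b') * z' := by rw [C.Z_A z hz a' ha']; group
      _ = a * a' * b * (z1 * b') * (z * z') := by rw [h1, C.Z_B z hz b' hb']; group
      _ = _ := by rw [C.Z_B z1 hz1 b' hb']; group
  one_mem' := ⟨1, A.one_mem, 1, B.one_mem, 1, Z.one_mem, by simp⟩
  inv_mem' := by
    rintro _ ⟨a, ha, b, hb, z, hz, rfl⟩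
    have ha' := A.inv_mem ha
    have hb' := B.inv_mem hb
    have hz' := Z.inv_mem hz
    obtain ⟨z1, hz1, h1⟩ := C.b_a ha' hb'
    refine ⟨a⁻¹, ha', b⁻¹, hb', z1 * z⁻¹, Z.mul_mem hz1 hz', ?_⟩
    rw [mul_inv_rev, mul_inv_rev, h1]
    have h2 := C.Z_A _ hz' _ ha'
    have h3 := C.Z_B _ hz' _ hb'
    have h4 := C.Z_comm hz' hz1
    calc z⁻¹ * (a⁻¹ * b⁻¹ * z1) = (z⁻¹ * a⁻¹) * b⁻¹ * z1 := by group
      _ = a⁻¹ * (z⁻¹ * b⁻¹) * z1 := by rw [h2]; group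
      _ = a⁻¹ * b⁻¹ * (z⁻¹ * z1) := by rw [h3]; group
      _ = _ := by rw [h4]

theorem mem_Sh {g : G} : g ∈ C.Sh ↔ ∃ a ∈ A, ∃ b ∈ B, ∃ z ∈ Z, g = a * b * z := Iff.rfl

theorem A_le : A ≤ C.Sh := fun a ha => ⟨a, ha, 1, B.one_mem, 1, Z.one_mem, by simp⟩
theorem B_le : B ≤ C.Sh := fun b hb => ⟨1, A.one_mem, b, hb, 1, Z.one_mem, by simp⟩
theorem Z_le : Z ≤ C.Sh := fun z hz => ⟨1, A.one_mem, 1, B.one_mem, z, hz, by simp⟩

theorem U_le : E.U ≤ C.Sh := by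
  rintro _ ⟨x, y, z, rfl⟩
  exact ⟨_, C.memA x, _, C.memB y, _, C.memZ z, rfl⟩

theorem Z_Sh {z g : G} (hz : z ∈ Z) (hg : g ∈ C.Sh) : z * g = g * z := by
  obtain ⟨a, ha, b, hb, z', hz', rfl⟩ := hg
  calc z * (a * b * z') = (z * a) * b * z' := by group
    _ = a * (z * b) * z' := by rw [C.Z_A z hz a ha]; group
    _ = a * b * (z * z') := by rw [C.Z_B z hz b hb]; group
    _ = _ := by rw [C.Z_comm hz hz']; group

theorem b_xb {z : G} (hz : z ∈ Z) (r : F) : z * E.xb r = E.xb r * z := C.Z_B z hz _ (C.memB r)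
theorem z_xa {z : G} (hz : z ∈ Z) (r : F) : z * E.xa r = E.xa r * z := C.Z_A z hz _ (C.memA r)

/-- action on `t`. -/
theorem act {a b z : G} {s r : F} (ha : a ∈ A) (hb : b ∈ B) (hz : z ∈ Z)
    (hs : a * E.t * a⁻¹ = E.xa s * E.t) (hr : b * E.t * b⁻¹ = E.xb r * E.t) :
    ∃ z0 ∈ Z, (a * b * z) * E.t * (a * b * z)⁻¹ = z0 * (E.xa s * E.xb r) * E.t := by
  obtain ⟨u, hu⟩ := C.conjZ z hz
  obtain ⟨z1, hz1, h1⟩ : ∃ z1 ∈ Z, a * E.xb r * a⁻¹ = z1 * E.xb r :=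
    ⟨_, C.A_B a ha _ (C.memB r), by group⟩
  have e1 : (a * b * z) * E.t * (a * b * z)⁻¹ = a * (b * (z * E.t * z⁻¹) * b⁻¹) * a⁻¹ := by group
  have h2 : E.xb r * E.xa s = E.xc (s * r) * (E.xa s * E.xb r) := by
    rw [E.a_b, ← mul_assoc, E.xc_sq, one_mul]
  refine ⟨E.xc u * z1 * E.xc (s * r), Z.mul_mem (Z.mul_mem (C.memZ u) hz1) (C.memZ _), ?_⟩
  rw [e1, hu, conj_mul_distrib b, conj_of_comm (C.Z_B _ (C.memZ u) b hb).symm, hr,
    conj_mul_distrib a, conj_of_comm (C.Z_A _ (C.memZ u) a ha).symm, conj_mul_distrib a, h1, hs]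
  calc E.xc u * (z1 * E.xb r * (E.xa s * E.t)) = E.xc u * z1 * (E.xb r * E.xa s) * E.t := by group
    _ = _ := by rw [h2]; group

theorem act' {g : G} (hg : g ∈ C.Sh) : ∃ s r, ∃ z0 ∈ Z,
    g * E.t * g⁻¹ = z0 * (E.xa s * E.xb r) * E.t := by
  obtain ⟨a, ha, b, hb, z, hz, rfl⟩ := hg
  obtain ⟨s, hs⟩ := C.conjA a ha
  obtain ⟨r, hr⟩ := C.conjB b hb
  exact ⟨s, r, C.act ha hb hz hs hr⟩

theorem Z_inter_U {x y : F} (h : E.xa x * E.xb y ∈ Z) : x = 0 ∧ y = 0 := by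
  obtain ⟨c, hc⟩ := C.centZ _ h (by
    rw [mul_assoc, ← E.t_b, ← mul_assoc, ← E.t_a, mul_assoc])
  have h1 : E.xa x * E.xb y * E.xc c = 1 := by rw [hc, E.xc_sq]
  obtain ⟨h2, h3, -⟩ := E.u_inj x y c h1
  exact ⟨h2, h3⟩

/-- `C_{S^}(t) = U`. -/
theorem cent_t {g : G} (hg : g ∈ C.Sh) (h : g * E.t = E.t * g) : g ∈ E.U := by
  obtain ⟨a, ha, b, hb, z, hz, rfl⟩ := hg
  obtain ⟨s, hs⟩ := C.conjA a ha
  obtain ⟨r, hr⟩ := C.conjB b hb
  obtain ⟨z0, hz0, h0⟩ := C.act ha hb hz hs hr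
  have h0' : E.t = z0 * (E.xa s * E.xb r) * E.t := by rw [conj_of_comm h] at h0; exact h0
  have h1 : z0 * (E.xa s * E.xb r) = 1 := mul_right_cancel (h0'.symm.trans (one_mul _).symm)
  have h2 : E.xa s * E.xb r ∈ Z := by
    rw [eq_inv_of_mul_eq_one_right h1]
    exact Z.inv_mem hz0
  obtain ⟨rfl, rfl⟩ := C.Z_inter_U h2
  rw [E.xa_zero, one_mul] at hs
  rw [E.xb_zero, one_mul] at hr
  obtain ⟨x, rfl⟩ := C.centA a ha (comm_of_conj hs)
  obtain ⟨y, rfl⟩ := C.centB b hb (comm_of_conj hr)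
  obtain ⟨c, rfl⟩ := C.centZ z hz (by
    have e1 : (E.xa x * E.xb y) * E.t = E.t * (E.xa x * E.xb y) := by
      rw [mul_assoc, ← E.t_b, ← mul_assoc, ← E.t_a, mul_assoc]
    have e2 : (E.xa x * E.xb y) * (z * E.t) = (E.xa x * E.xb y) * (E.t * z) := by
      rw [← mul_assoc, h, ← mul_assoc, ← mul_assoc (E.xa x * E.xb y), e1]
    exact mul_left_cancel e2)
  exact ⟨x, y, c, rfl⟩

theorem t_not_mem : E.t ∉ C.Sh := fun h => by
  obtain ⟨x, y, z, h⟩ := C.cent_t h rfl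
  exact E.t_not x y z h

/-- `z t` involution, `z ∈ Z^`, then `z ∈ X_c`. -/
theorem of_sq {z : G} (hz : z ∈ Z) (h : (z * E.t) * (z * E.t) = 1) : ∃ c, z = E.xc c := by
  apply C.centZ z hz
  have e2 : E.t * z = z⁻¹ * E.t := by
    have : E.t * z = z⁻¹ * ((z * E.t) * (z * E.t)) * E.t⁻¹ := by group
    rw [this, h, mul_one, E.t_inv]
  rw [e2, inv_of_sq (C.Z_sq z hz)]

theorem t_Z {z : G} (hz : z ∈ Z) : E.t * z * E.t⁻¹ ∈ Z := by
  obtain ⟨c, hc⟩ := C.conjZ z hz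
  have h1 : z * E.t = E.xc c * E.t * z := by rw [← hc, inv_mul_cancel_right]
  have h2 : E.t * z * E.t⁻¹ = (E.xc c)⁻¹ * z := by
    rw [eq_inv_mul_iff_mul_eq, ← mul_assoc, ← mul_assoc, ← h1, mul_inv_cancel_right]
  rw [h2]
  exact Z.mul_mem (Z.inv_mem (C.memZ c)) hz

theorem t_A {z : G} (hz : z ∈ A) : E.t * z * E.t⁻¹ ∈ A := by
  obtain ⟨c, hc⟩ := C.conjA z hz
  have h1 : z * E.t = E.xa c * E.t * z := by rw [← hc, inv_mul_cancel_right]
  have h2 : E.t * z * E.t⁻¹ = (E.xa c)⁻¹ * z := by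
    rw [eq_inv_mul_iff_mul_eq, ← mul_assoc, ← mul_assoc, ← h1, mul_inv_cancel_right]
  rw [h2]
  exact A.mul_mem (A.inv_mem (C.memA c)) hz

theorem t_B {z : G} (hz : z ∈ B) : E.t * z * E.t⁻¹ ∈ B := C.swap.t_A hz

theorem t_Sh {g : G} (hg : g ∈ C.Sh) : E.t * g * E.t⁻¹ ∈ C.Sh := by
  obtain ⟨a, ha, b, hb, z, hz, rfl⟩ := hg
  refine ⟨_, C.t_A ha, _, C.t_B hb, _, C.t_Z hz, by group⟩

/-- every involution of `t S^` is conjugate to `t` under `S^`. -/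
theorem invol {x : G} (hx : x ∈ C.Sh) (h : (E.t * x) * (E.t * x) = 1) :
    ∃ v ∈ C.Sh, v * E.t * v⁻¹ = E.t * x := by
  obtain ⟨a, ha, b, hb, z, hz, rfl⟩ := hx
  obtain ⟨s, hs⟩ := C.conjA a ha
  obtain ⟨r, hr⟩ := C.conjB b hb
  obtain ⟨z0, hz0, h0⟩ := C.act ha hb hz hs hr
  set x := a * b * z with hxdef
  -- `x * x ∈ Z`
  have hxx : x * x ∈ Z := by
    have e1 : x * x = a * b * (z * a) * b * z := by rw [hxdef]; group
    have e2 : x * x = a * b * a * (z * b) * z := by rw [e1, C.Z_A z hz a ha]; group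
    have e3 : x * x = (a * b * a * b) * (z * z) := by rw [e2, C.Z_B z hz b hb]; group
    rw [e3, C.Z_sq z hz, mul_one]
    have h4 := C.A_B a ha b hb
    rwa [inv_of_sq (C.A_sq a ha), inv_of_sq (C.B_sq b hb)] at h4
  have h1 : x * E.t * x⁻¹ = x * x * E.t := by
    have e1 : x⁻¹ = E.t * x * E.t := by
      symm
      apply eq_inv_of_mul_eq_one_left
      rw [← h]; group
    have e2 : x * E.t * x⁻¹ = x * (E.t * E.t) * x * E.t := by
      rw [e1]; group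
    rw [e2, E.t_sq, mul_one]
  have h2 : E.xa s * E.xb r ∈ Z := by
    have e1 : x * x = z0 * (E.xa s * E.xb r) := mul_right_cancel (h1.symm.trans h0)
    have e2 : E.xa s * E.xb r = z0⁻¹ * (x * x) := by rw [e1]; group
    rw [e2]
    exact Z.mul_mem (Z.inv_mem hz0) hxx
  obtain ⟨rfl, rfl⟩ := C.Z_inter_U h2
  rw [E.xa_zero, one_mul] at hs
  rw [E.xb_zero, one_mul] at hr
  obtain ⟨s', rfl⟩ := C.centA a ha (comm_of_conj hs)
  obtain ⟨r', rfl⟩ := C.centB b hb (comm_of_conj hr)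
  obtain ⟨a1, ha1, h3⟩ := C.ontoA s'
  obtain ⟨b1, hb1, h4⟩ := C.ontoB r'
  obtain ⟨z1, hz1, h5⟩ := C.act ha1 hb1 Z.one_mem h3 h4
  rw [mul_one] at h5
  set v1 := a1 * b1 with hv1
  have hv1S : v1 ∈ C.Sh := C.Sh.mul_mem (C.A_le ha1) (C.B_le hb1)
  have htz := C.t_Z hz
  -- `t x = z2 * (v1 t v1⁻¹)`
  have h6 : E.t * x = (E.t * z * E.t⁻¹ * z1⁻¹) * (v1 * E.t * v1⁻¹) := by
    rw [h5, hxdef]
    have e1 : E.t * (E.xa s' * E.xb r' * z) = E.xa s' * E.xb r' * (E.t * z) := by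
      calc E.t * (E.xa s' * E.xb r' * z) = (E.t * E.xa s') * E.xb r' * z := by group
        _ = E.xa s' * (E.t * E.xb r') * z := by rw [E.t_a]; group
        _ = _ := by rw [E.t_b]; group
    rw [e1]
    have e2 : E.t * z * E.t⁻¹ * z1⁻¹ * (z1 * (E.xa s' * E.xb r') * E.t)
        = (E.t * z * E.t⁻¹) * (E.xa s' * E.xb r') * E.t := by group
    have e3 : (E.t * z * E.t⁻¹) * (E.xa s' * E.xb r') = (E.xa s' * E.xb r') * (E.t * z * E.t⁻¹) :=
      C.Z_Sh htz (C.Sh.mul_mem (C.A_le (C.memA _)) (C.B_le (C.memB _)))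
    rw [e2, e3]
    group
  set z2 := E.t * z * E.t⁻¹ * z1⁻¹ with hz2def
  have hz2 : z2 ∈ Z := Z.mul_mem htz (Z.inv_mem hz1)
  have h7 : E.t * x = v1 * (z2 * E.t) * v1⁻¹ := by
    rw [h6, conj_mul_distrib v1, conj_of_comm (C.Z_Sh hz2 hv1S).symm]
  obtain ⟨c, hc⟩ := C.of_sq hz2 (by
    have e1 : (v1 * (z2 * E.t) * v1⁻¹) * (v1 * (z2 * E.t) * v1⁻¹) = 1 := by rw [← h7, h]
    have e2 : (z2 * E.t) * (z2 * E.t)
        = v1⁻¹ * ((v1 * (z2 * E.t) * v1⁻¹) * (v1 * (z2 * E.t) * v1⁻¹)) * v1 := by group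
    rw [e2, e1, mul_one, inv_mul_cancel])
  obtain ⟨z3, hz3, h8⟩ := C.ontoZ c
  refine ⟨v1 * z3, C.Sh.mul_mem hv1S (C.Z_le hz3), ?_⟩
  have e1 : v1 * z3 * E.t * (v1 * z3)⁻¹ = v1 * (z3 * E.t * z3⁻¹) * v1⁻¹ := by group
  rw [e1, h8, h7, hc]

end Core


end Cfsg.Agent.StdRank2.L3G
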