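import Cfsg.Agent.StdL3.HeisTwo
import Mathlib.FieldTheory.Finite.Basic

/-!
# The rings `Q g = F[θ]`, `θ² = θ + g`, `F` a finite field of characteristic 2
-/

set_option autoImplicit false

namespace Cfsg.Agent.StdRank2.L3G.Quad

open Cfsg.Agent.StdL3.Heis Cfsg.Agent.StdL3.HeisTwo

variable {F : Type*} [Field F]

/-- `F[θ]`, `θ² = θ + g`. -/
abbrev Q (g : F) : Type _ := QuadraticAlgebra F g 1

variable {g : F}

theorem q_ext {a b : Q g} (h1 : a.re = b.re) (h2 : a.im = b.im) : a = b :=
  QuadraticAlgebra.ext h1 h2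

theorem re_add (a b : Q g) : (a + b).re = a.re + b.re := rfl
theorem im_add (a b : Q g) : (a + b).im = a.im + b.im := rfl
theorem re_mul (a b : Q g) : (a * b).re = a.re * b.re + g * a.im * b.im := rfl
theorem im_mul (a b : Q g) : (a * b).im = a.re * b.im + a.im * b.re + 1 * a.im * b.im := rfl
theorem re_one : (1 : Q g).re = 1 := rfl
theorem im_one : (1 : Q g).im = 0 := rfl
theorem re_zero : (0 : Q g).re = 0 := rfl
theorem im_zero : (0 : Q g).im = 0 := rfl

/-- the generator `θ` -/
def th (g : F) : Q g := ⟨0, 1⟩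

/-- constants -/
def con (x : F) : Q g := ⟨x, 0⟩

theorem eq_con_add (a : Q g) : a = con a.re + con a.im * th g := by
  apply q_ext
  · rw [re_add, re_mul]
    change a.re = a.re + (a.im * 0 + g * 0 * 1)
    ring
  · rw [im_add, im_mul]
    change a.im = 0 + (a.im * 1 + 0 * 0 + 1 * 0 * 1)
    ring

theorem con_zero : (con 0 : Q g) = 0 := rfl
theorem con_one : (con 1 : Q g) = 1 := rfl
theorem con_add (x y : F) : (con (x + y) : Q g) = con x + con y := by
  apply q_ext
  · rfl
  · exact (add_zero (0 : F)).symm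
theorem con_mul (x y : F) : (con (x * y) : Q g) = con x * con y := by
  apply q_ext
  · rw [re_mul]
    change x * y = x * y + g * 0 * 0
    ring
  · rw [im_mul]
    change 0 = x * 0 + 0 * y + 1 * 0 * 0
    ring

theorem con_pow (x : F) (n : ℕ) : (con (x ^ n) : Q g) = con x ^ n := by
  induction n with
  | zero => rw [pow_zero, pow_zero, con_one]
  | succ n ih => rw [pow_succ, pow_succ, con_mul, ih]

theorem con_inj {x y : F} (h : (con x : Q g) = con y) : x = y := congrArg QuadraticAlgebra.re h

theorem one_ne_zero' : (1 : Q g) ≠ 0 := by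
  intro h
  have := congrArg QuadraticAlgebra.re h
  rw [re_one, re_zero] at this
  exact one_ne_zero this

instance instNontrivial : Nontrivial (Q g) := ⟨1, 0, one_ne_zero'⟩

instance instFiniteQ [Finite F] : Finite (Q g) :=
  Finite.of_equiv _ (QuadraticAlgebra.equivProd g 1).symm

theorem card_q : Nat.card (Q g) = Nat.card F ^ 2 := by
  rw [Nat.card_congr (QuadraticAlgebra.equivProd g 1), Nat.card_prod, sq]

section CharTwo

variable [CharP F 2]

theorem two_eq_zero : (2 : Q g) = 0 := by
  have h : (1 : Q g) + 1 = 0 := by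
    apply q_ext
    · rw [re_add, re_one, re_zero, CharTwo.add_self_eq_zero]
    · rw [im_add, im_one, im_zero, add_zero]
  rw [← h]; norm_num

instance instCharP : CharP (Q g) 2 := CharTwo.of_one_ne_zero_of_two_eq_zero one_ne_zero' two_eq_zero

theorem th_sq : th g * th g = th g + con g := by
  apply q_ext
  · rw [re_mul, re_add]
    change 0 * 0 + g * 1 * 1 = 0 + g
    ring
  · rw [im_mul, im_add]
    change 0 * 1 + 1 * 0 + 1 * 1 * 1 = 1 + (0 : F)
    ring

theorem add_pow_two_pow (a b : Q g) (n : ℕ) : (a + b) ^ 2 ^ n = a ^ 2 ^ n + b ^ 2 ^ n :=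
  add_pow_char_pow a b 2 n

/-- `θ^(2^k) = θ + g + g² + ... + g^(2^(k-1))`. -/
theorem th_pow (k : ℕ) : th g ^ 2 ^ k = th g + con (∑ i ∈ Finset.range k, g ^ 2 ^ i) := by
  induction k with
  | zero => rw [pow_zero, pow_one, Finset.sum_range_zero, con_zero, add_zero]
  | succ k ih =>
    have h1 : th g ^ 2 ^ (k + 1) = (th g ^ 2) ^ 2 ^ k := by rw [← pow_mul, ← pow_succ']
    rw [h1, sq, th_sq, add_pow_two_pow, ih, ← con_pow, add_assoc, ← con_add,
      Finset.sum_range_succ]

/-- `a ^ (q²) = a`. -/
theorem pow_card_sq [Finite F] (a : Q g) : a ^ (Nat.card F ^ 2) = a := by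
  classical
  have : Fintype F := Fintype.ofFinite F
  obtain ⟨n, -, hn⟩ := FiniteField.card F 2
  rw [← Nat.card_eq_fintype_card] at hn
  have hq : Nat.card F ^ 2 = 2 ^ (2 * (n : ℕ)) := by rw [hn, ← pow_mul, mul_comm]
  have hF : ∀ x : F, x ^ 2 ^ (n : ℕ) = x := by
    intro x
    rw [← hn, Nat.card_eq_fintype_card, FiniteField.pow_card]
  have hF2 : ∀ x : F, x ^ 2 ^ (2 * (n : ℕ)) = x := by
    intro x
    rw [two_mul, pow_add, pow_mul, hF, hF]
  have hsum : ∑ i ∈ Finset.range (2 * (n : ℕ)), g ^ 2 ^ i = 0 := by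
    rw [two_mul, Finset.sum_range_add]
    have : ∀ i, g ^ 2 ^ ((n : ℕ) + i) = g ^ 2 ^ i := by
      intro i
      rw [pow_add, pow_mul, hF]
    simp only [this]
    exact CharTwo.add_self_eq_zero _
  rw [hq]
  conv_lhs => rw [eq_con_add a]
  rw [add_pow_two_pow, mul_pow, th_pow, hsum, con_zero, add_zero, ← con_pow, ← con_pow, hF2, hF2]
  exact (eq_con_add a).symm

/-- `Q g` is regular. -/
theorem reg_q [Finite F] : Reg (Q g) := by
  intro a
  have hc : 1 < Nat.card F := Finite.one_lt_card
  obtain ⟨m, hm⟩ : ∃ m, Nat.card F ^ 2 = m + 2 := by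
    have : 2 ≤ Nat.card F ^ 2 := by nlinarith
    exact ⟨Nat.card F ^ 2 - 2, by omega⟩
  have h := pow_card_sq a
  rw [hm] at h
  refine ⟨a ^ (m + 1), a ^ m, ?_, ?_, ?_⟩
  · calc a ^ (m + 1) * a ^ (m + 1) = a ^ m * a ^ (m + 2) := by ring
      _ = a ^ m * a := by rw [h]
      _ = a ^ (m + 1) := by ring
  · calc a ^ (m + 1) * a = a ^ (m + 2) := by ring
      _ = a := h
  · ring

/-- the automorphism `θ ↦ θ + 1`, identity on `F` -/
def tau (g : F) : RingAut (Q g) where
  toFun a := ⟨a.re + a.im, a.im⟩
  invFun a := ⟨a.re + a.im, a.im⟩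
  left_inv a := by
    apply q_ext
    · change a.re + a.im + a.im = a.re
      rw [add_assoc, CharTwo.add_self_eq_zero, add_zero]
    · rfl
  right_inv a := by
    apply q_ext
    · change a.re + a.im + a.im = a.re
      rw [add_assoc, CharTwo.add_self_eq_zero, add_zero]
    · rfl
  map_mul' a b := by
    obtain ⟨x, y⟩ := a
    obtain ⟨x', y'⟩ := b
    apply q_ext
    · rw [re_mul]
      change x * x' + g * y * y' + (x * y' + y * x' + 1 * y * y') =
        (x + y) * (x' + y') + g * y * y'
      ring
    · rw [im_mul]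
      change x * y' + y * x' + 1 * y * y' = (x + y) * y' + y * (x' + y') + 1 * y * y'
      have e : y * y' + y * y' = 0 := CharTwo.add_self_eq_zero _
      linear_combination (-1 : F) * e
  map_add' a b := by
    apply q_ext
    · change a.re + b.re + (a.im + b.im) = a.re + a.im + (b.re + b.im)
      ring
    · rfl

theorem tau_apply (a : Q g) : tau g a = ⟨a.re + a.im, a.im⟩ := rfl

theorem tau_th : tau g (th g) = th g + 1 := by
  apply q_ext
  · change (0 : F) + 1 = 0 + 1
    rfl
  · change (1 : F) = 1 + 0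
    rw [add_zero]

theorem tau_con (x : F) : tau g (con x) = con x := by
  apply q_ext
  · change x + 0 = x
    ring
  · rfl

theorem tau_tau : tau g * tau g = 1 := by
  ext a
  · change a.re + a.im + a.im = a.re
    rw [add_assoc, CharTwo.add_self_eq_zero, add_zero]
  · rfl

theorem tau_eq_iff {a : Q g} : tau g a = a ↔ a.im = 0 := by
  constructor
  · intro h
    have := congrArg QuadraticAlgebra.re h
    change a.re + a.im = a.re at this
    exact add_eq_left.1 this
  · intro h
    apply q_ext
    · change a.re + a.im = a.re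
      rw [h, add_zero]
    · rfl

/-! ## field or split -/

/-- the idempotent `θ + c` -/
def idem (g c : F) : Q g := ⟨c, 1⟩

theorem idem_mul {c : F} (hc : c * c + c = g) : idem g c * idem g c = idem g c := by
  apply q_ext
  · rw [re_mul]
    change c * c + g * 1 * 1 = c
    have e : c * c + c * c = 0 := CharTwo.add_self_eq_zero _
    linear_combination e - hc
  · rw [im_mul]
    change c * 1 + 1 * c + 1 * 1 * 1 = 1
    have e : c + c = 0 := CharTwo.add_self_eq_zero _
    linear_combination e

theorem idem_tau {c : F} : tau g (idem g c) = idem g c + 1 := by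
  apply q_ext
  · rfl
  · change (1 : F) = 1 + 0
    rw [add_zero]

/-- `Q g` is a field if `X² + X + g` has no root. -/
theorem isField (h : ∀ c : F, c * c + c ≠ g) : IsField (Q g) := by
  refine ⟨⟨1, 0, one_ne_zero'⟩, mul_comm, ?_⟩
  intro a ha
  -- norm
  set N : F := a.re * a.re + a.re * a.im + g * (a.im * a.im) with hN
  have hN0 : N ≠ 0 := by
    intro h0
    by_cases him : a.im = 0
    · rw [hN, him] at h0
      apply ha
      apply q_ext
      · rw [re_zero]
        have : a.re * a.re = 0 := by linear_combination h0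
        exact mul_self_eq_zero.1 this
      · rw [im_zero, him]
    · apply h (a.re / a.im)
      have e : (a.re * a.re + a.re * a.im) = g * (a.im * a.im) := by
        have e1 : g * (a.im * a.im) + g * (a.im * a.im) = 0 := CharTwo.add_self_eq_zero _
        linear_combination h0 - e1
      field_simp
      linear_combination e
  refine ⟨con N⁻¹ * ⟨a.re + a.im, a.im⟩, ?_⟩
  have h1 : a * ⟨a.re + a.im, a.im⟩ = con N := by
    apply q_ext
    · rw [re_mul]
      change a.re * (a.re + a.im) + g * a.im * a.im = N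
      rw [hN]; ring
    · rw [im_mul]
      change a.re * a.im + a.im * (a.re + a.im) + 1 * a.im * a.im = 0
      have e : (a.re * a.im + a.im * a.im) + (a.re * a.im + a.im * a.im) = 0 :=
        CharTwo.add_self_eq_zero _
      linear_combination e
  rw [mul_left_comm, h1, ← con_mul, inv_mul_cancel₀ hN0, con_one]

end CharTwo

end Cfsg.Agent.StdRank2.L3G.Quad
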