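import Cfsg.Agent.StdRank2.L3G.Coord
import Cfsg.Agent.StdRank2.L3G.Quad

/-!
# The grown group is the Heisenberg group over `Q g = F[θ]`, `θ² = θ + g`
-/

set_option autoImplicit false
set_option linter.unusedSectionVars false

namespace Cfsg.Agent.StdRank2.L3G

open Subgroup Quad
open Cfsg.Agent.StdL3.Heis Cfsg.Agent.StdL3.HeisTwo

variable {F : Type*} [Field F] [CharP F 2] {G : Type*} [Group G]

namespace Coord

variable {E : Base F G} {A B Z : Subgroup G} (K : Coord E A B Z)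

/-- coordinates on `A^`. -/
def ua (u : Q K.g) : G := E.xa u.re * K.pa u.im
/-- coordinates on `B^`. -/
def ub (u : Q K.g) : G := E.xb u.re * K.pb u.im
/-- coordinates on `Z^`. -/
def uc (u : Q K.g) : G := E.xc u.re * K.pc u.im

/-- The swapped coordinates. -/
@[simps]
def swap (C : Core E A B Z) : Coord E.swap B A Z where
  pa := K.pb
  pb := K.pa
  pc := K.pc
  g := K.g
  pa_mem := K.pb_mem
  pb_mem := K.pa_mem
  pc_mem := K.pc_mem
  pa_add := K.pb_add
  pb_add := K.pa_add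
  pc_add := K.pc_add
  pa_t := K.pb_t
  pb_t := K.pa_t
  pc_t := K.pc_t
  pa_xb s r := by
    have h1 : cm (K.pb s) (E.xa r) = (cm (E.xa r) (K.pb s))⁻¹ := by unfold cm; group
    simp only [Base.swap_xb]
    rw [h1, K.xa_pb, inv_of_sq (C.Z_sq _ (K.pc_mem _)), mul_comm]
  xa_pb s r := by
    have h1 : cm (E.xb s) (K.pa r) = (cm (K.pa r) (E.xb s))⁻¹ := by unfold cm; group
    simp only [Base.swap_xa]
    rw [h1, K.pa_xb, inv_of_sq (C.Z_sq _ (K.pc_mem _)), mul_comm]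
  pa_pb s r := by
    have h1 : cm (K.pb s) (K.pa r) = (cm (K.pa r) (K.pb s))⁻¹ := by unfold cm; group
    simp only [Base.swap_xc]
    rw [h1, K.pa_pb, inv_of_sq (C.Z_sq _ (Z.mul_mem (K.pc_mem _) (C.memZ _))), mul_comm r s]

variable (C : Core E A B Z)
include C

theorem ua_mem (u : Q K.g) : K.ua u ∈ A := A.mul_mem (C.memA _) (K.pa_mem _)
theorem ub_mem (u : Q K.g) : K.ub u ∈ B := B.mul_mem (C.memB _) (K.pb_mem _)
theorem uc_mem (u : Q K.g) : K.uc u ∈ Z := Z.mul_mem (C.memZ _) (K.pc_mem _)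

theorem ua_add (u v : Q K.g) : K.ua (u + v) = K.ua u * K.ua v := by
  unfold ua
  rw [re_add, im_add, E.xa_add, K.pa_add]
  have : E.xa v.re * K.pa u.im = K.pa u.im * E.xa v.re := C.A_comm (C.memA _) (K.pa_mem _)
  calc E.xa u.re * E.xa v.re * (K.pa u.im * K.pa v.im)
      = E.xa u.re * (E.xa v.re * K.pa u.im) * K.pa v.im := by group
    _ = _ := by rw [this]; group

theorem ub_add (u v : Q K.g) : K.ub (u + v) = K.ub u * K.ub v := by
  unfold ub
  rw [re_add, im_add, E.xb_add, K.pb_add]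
  have : E.xb v.re * K.pb u.im = K.pb u.im * E.xb v.re := C.B_comm (C.memB _) (K.pb_mem _)
  calc E.xb u.re * E.xb v.re * (K.pb u.im * K.pb v.im)
      = E.xb u.re * (E.xb v.re * K.pb u.im) * K.pb v.im := by group
    _ = _ := by rw [this]; group

theorem uc_add (u v : Q K.g) : K.uc (u + v) = K.uc u * K.uc v := by
  unfold uc
  rw [re_add, im_add, E.xc_add, K.pc_add]
  have : E.xc v.re * K.pc u.im = K.pc u.im * E.xc v.re := C.Z_comm (C.memZ _) (K.pc_mem _)
  calc E.xc u.re * E.xc v.re * (K.pc u.im * K.pc v.im)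
      = E.xc u.re * (E.xc v.re * K.pc u.im) * K.pc v.im := by group
    _ = _ := by rw [this]; group

theorem cm_ua_ub (u v : Q K.g) : cm (K.ua u) (K.ub v) = K.uc (u * v) := by
  unfold ua ub uc
  have h1 := C.memA u.re
  have h2 := K.pa_mem u.im
  have h3 := C.memB v.re
  have h4 := K.pb_mem v.im
  have hxx : cm (E.xa u.re) (E.xb v.re) = E.xc (u.re * v.re) := by
    unfold cm
    rw [E.a_b]; group
  rw [C.cm_mul_l h1 h2 (B.mul_mem h3 h4), C.cm_mul_r h1 h3 h4, C.cm_mul_r h2 h3 h4, hxx, K.xa_pb,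
    K.pa_xb, K.pa_pb, re_mul, im_mul, E.xc_add, K.pc_add, K.pc_add]
  have e1 : E.xc (K.g * (u.im * v.im)) = E.xc (K.g * u.im * v.im) := by rw [mul_assoc]
  have e2 : K.pc (1 * u.im * v.im) = K.pc (u.im * v.im) := by rw [one_mul]
  rw [e1, e2]
  have hz : ∀ a, K.pc a * E.xc (K.g * u.im * v.im) = E.xc (K.g * u.im * v.im) * K.pc a := fun a =>
    C.Z_comm (K.pc_mem a) (C.memZ _)
  calc E.xc (u.re * v.re) * K.pc (u.re * v.im) *
        (K.pc (u.im * v.re) * (K.pc (u.im * v.im) * E.xc (K.g * u.im * v.im)))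
      = E.xc (u.re * v.re) * K.pc (u.re * v.im) *
        (K.pc (u.im * v.re) * (E.xc (K.g * u.im * v.im) * K.pc (u.im * v.im))) := by rw [hz]
    _ = E.xc (u.re * v.re) * K.pc (u.re * v.im) *
        ((K.pc (u.im * v.re) * E.xc (K.g * u.im * v.im)) * K.pc (u.im * v.im)) := by group
    _ = E.xc (u.re * v.re) * (K.pc (u.re * v.im) * E.xc (K.g * u.im * v.im)) *
        (K.pc (u.im * v.re) * K.pc (u.im * v.im)) := by rw [hz]; group
    _ = _ := by rw [hz]; group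

theorem t_ua (u : Q K.g) : E.t * K.ua u * E.t⁻¹ = K.ua (tau K.g u) := by
  unfold ua
  rw [conj_mul_distrib, conj_of_comm (E.t_a _),
    C.t_conj_of (E.xa_sq _) (C.A_comm (C.memA _) (K.pa_mem _)) (K.pa_t _), tau_apply]
  simp only
  rw [E.xa_add, mul_assoc, C.A_comm (K.pa_mem _) (C.memA _)]

theorem t_ub (u : Q K.g) : E.t * K.ub u * E.t⁻¹ = K.ub (tau K.g u) := by
  unfold ub
  rw [conj_mul_distrib, conj_of_comm (E.t_b _),
    C.t_conj_of (E.xb_sq _) (C.B_comm (C.memB _) (K.pb_mem _)) (K.pb_t _), tau_apply]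
  simp only
  rw [E.xb_add, mul_assoc, C.B_comm (K.pb_mem _) (C.memB _)]

theorem t_uc (u : Q K.g) : E.t * K.uc u * E.t⁻¹ = K.uc (tau K.g u) := by
  unfold uc
  rw [conj_mul_distrib, conj_of_comm (E.t_c _),
    C.t_conj_of (E.xc_sq _) (C.Z_comm (C.memZ _) (K.pc_mem _)) (K.pc_t _), tau_apply]
  simp only
  rw [E.xc_add, mul_assoc, C.Z_comm (K.pc_mem _) (C.memZ _)]

theorem exists_ua {a : G} (ha : a ∈ A) : ∃ u, a = K.ua u := by
  obtain ⟨s, hs⟩ := C.conjA a ha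
  have h1 : (K.pa s)⁻¹ * a * E.t = E.t * ((K.pa s)⁻¹ * a) := by
    apply comm_of_conj
    have : (K.pa s)⁻¹ * a * E.t * ((K.pa s)⁻¹ * a)⁻¹ = (K.pa s)⁻¹ * (a * E.t * a⁻¹) * K.pa s := by
      group
    rw [this, hs, ← K.pa_t]; group
  obtain ⟨c, hc⟩ := C.centA _ (A.mul_mem (A.inv_mem (K.pa_mem s)) ha) h1
  refine ⟨⟨c, s⟩, ?_⟩
  change a = E.xa c * K.pa s
  rw [C.A_comm (C.memA c) (K.pa_mem s), ← hc]; group

theorem exists_ub {b : G} (hb : b ∈ B) : ∃ u, b = K.ub u := (K.swap C).exists_ua C.swap hb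

theorem exists_uc {b : G} (hb : b ∈ Z) : ∃ u, b = K.uc u := by
  obtain ⟨s, hs⟩ := C.conjZ b hb
  have h1 : (K.pc s)⁻¹ * b * E.t = E.t * ((K.pc s)⁻¹ * b) := by
    apply comm_of_conj
    have : (K.pc s)⁻¹ * b * E.t * ((K.pc s)⁻¹ * b)⁻¹ = (K.pc s)⁻¹ * (b * E.t * b⁻¹) * K.pc s := by
      group
    rw [this, hs, ← K.pc_t]; group
  obtain ⟨c, hc⟩ := C.centZ _ (Z.mul_mem (Z.inv_mem (K.pc_mem s)) hb) h1
  refine ⟨⟨c, s⟩, ?_⟩
  change b = E.xc c * K.pc s
  rw [C.Z_comm (C.memZ c) (K.pc_mem s), ← hc]; group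

theorem ua_eq_one {u : Q K.g} (h : K.ua u = 1) : u = 0 := by
  have h1 : E.xa u.im * E.t = E.t := by
    have h2 : K.ua u * E.t * (K.ua u)⁻¹ = E.xa u.im * E.t := by
      unfold ua
      have : E.xa u.re * K.pa u.im * E.t * (E.xa u.re * K.pa u.im)⁻¹
          = E.xa u.re * (K.pa u.im * E.t * (K.pa u.im)⁻¹) * (E.xa u.re)⁻¹ := by group
      have h3 : E.xa u.re * E.xa u.im = E.xa u.im * E.xa u.re := C.A_comm (C.memA _) (C.memA _)
      rw [this, K.pa_t, conj_mul_distrib, conj_of_comm h3, conj_of_comm (E.t_a _).symm]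
    rw [← h2, h, one_mul, inv_one, mul_one]
  have h2 : u.im = 0 := E.xa_eq_one (mul_eq_right.1 h1)
  have h3 : K.pa 0 = 1 := hom_zero K.pa_add
  unfold ua at h
  rw [h2, h3, mul_one] at h
  exact q_ext (E.xa_eq_one h) h2

theorem ub_eq_one {u : Q K.g} (h : K.ub u = 1) : u = 0 := (K.swap C).ua_eq_one C.swap h

theorem uc_eq_one {u : Q K.g} (h : K.uc u = 1) : u = 0 := by
  have h1 : E.xc u.im * E.t = E.t := by
    have h2 : K.uc u * E.t * (K.uc u)⁻¹ = E.xc u.im * E.t := by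
      unfold uc
      have : E.xc u.re * K.pc u.im * E.t * (E.xc u.re * K.pc u.im)⁻¹
          = E.xc u.re * (K.pc u.im * E.t * (K.pc u.im)⁻¹) * (E.xc u.re)⁻¹ := by group
      have h3 : E.xc u.re * E.xc u.im = E.xc u.im * E.xc u.re := C.Z_comm (C.memZ _) (C.memZ _)
      rw [this, K.pc_t, conj_mul_distrib, conj_of_comm h3, conj_of_comm (E.t_c _).symm]
    rw [← h2, h, one_mul, inv_one, mul_one]
  have h2 : u.im = 0 := E.xc_eq_one (mul_eq_right.1 h1)
  have h3 : K.pc 0 = 1 := hom_zero K.pc_add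
  unfold uc at h
  rw [h2, h3, mul_one] at h
  exact q_ext (E.xc_eq_one h) h2

/-- The coordinate map `Heis (Q g) → G`. -/
def toHom : Heis (Q K.g) →* G where
  toFun u := K.ub u.b * K.ua u.a * K.uc u.c
  map_one' := by
    have h1 : K.ua 0 = 1 := by
      have := K.ua_add C 0 0; rw [add_zero] at this; exact left_eq_mul.1 this
    have h2 : K.ub 0 = 1 := by
      have := K.ub_add C 0 0; rw [add_zero] at this; exact left_eq_mul.1 this
    have h3 : K.uc 0 = 1 := by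
      have := K.uc_add C 0 0; rw [add_zero] at this; exact left_eq_mul.1 this
    rw [one_a, one_b, one_c, h1, h2, h3, one_mul, one_mul]
  map_mul' u v := by
    rw [mul_a, mul_b, mul_c, K.ub_add C, K.ua_add C, K.uc_add C, K.uc_add C, ← K.cm_ua_ub C]
    have hc := K.uc_mem C u.c
    have h1 := C.Z_A _ hc _ (K.ua_mem C v.a)
    have h2 := C.Z_B _ hc _ (K.ub_mem C v.b)
    have hd : cm (K.ua u.a) (K.ub v.b) ∈ Z := C.cm_mem (K.ua_mem C _) (K.ub_mem C _)
    have h3 := C.Z_A _ hd _ (K.ua_mem C v.a)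
    have h3' := C.Z_A _ hd _ (K.ua_mem C u.a)
    have h4 := C.Z_comm hd (K.uc_mem C v.c)
    have h5 := C.Z_comm hd hc
    have h6 : K.ua u.a * K.ub v.b = K.ub v.b * K.ua u.a * cm (K.ua u.a) (K.ub v.b) := by
      have h7 : K.ua u.a * K.ub v.b = cm (K.ua u.a) (K.ub v.b) * (K.ub v.b * K.ua u.a) := by
        unfold cm; group
      rw [h7]
      have h8 := C.Z_B _ hd _ (K.ub_mem C v.b)
      rw [← mul_assoc, h8, mul_assoc, h3', mul_assoc]
    symm
    calc K.ub u.b * K.ua u.a * K.uc u.c * (K.ub v.b * K.ua v.a * K.uc v.c)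
        = K.ub u.b * K.ua u.a * (K.uc u.c * K.ub v.b) * K.ua v.a * K.uc v.c := by group
      _ = K.ub u.b * K.ua u.a * K.ub v.b * (K.uc u.c * K.ua v.a) * K.uc v.c := by rw [h2]; group
      _ = K.ub u.b * (K.ua u.a * K.ub v.b) * K.ua v.a * (K.uc u.c * K.uc v.c) := by rw [h1]; group
      _ = K.ub u.b * K.ub v.b * K.ua u.a * (cm (K.ua u.a) (K.ub v.b) * K.ua v.a) *
            (K.uc u.c * K.uc v.c) := by rw [h6]; group
      _ = K.ub u.b * K.ub v.b * (K.ua u.a * K.ua v.a) * ((cm (K.ua u.a) (K.ub v.b) * K.uc u.c) *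
            K.uc v.c) := by rw [h3]; group
      _ = K.ub u.b * K.ub v.b * (K.ua u.a * K.ua v.a) * (K.uc u.c *
            (cm (K.ua u.a) (K.ub v.b) * K.uc v.c)) := by rw [h5]; group
      _ = _ := by rw [h4]; group

theorem toHom_apply (u : Heis (Q K.g)) : K.toHom C u = K.ub u.b * K.ua u.a * K.uc u.c := rfl

theorem toHom_mem (u : Heis (Q K.g)) : K.toHom C u ∈ C.Sh :=
  C.Sh.mul_mem (C.Sh.mul_mem (C.B_le (K.ub_mem C _)) (C.A_le (K.ua_mem C _))) (C.Z_le (K.uc_mem C _))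

theorem toHom_injective : Function.Injective (K.toHom C) := by
  rw [injective_iff_map_eq_one]
  intro u hu
  rw [toHom_apply] at hu
  have h1 := C.swap.factor (K.ub_mem C _) (K.ua_mem C _) (K.uc_mem C _) hu
  have h2 := K.ub_eq_one C h1.1
  have h3 := K.ua_eq_one C h1.2.1
  have h4 := K.uc_eq_one C h1.2.2
  ext : 1
  · rw [h3]; rfl
  · rw [h2]; rfl
  · rw [h4]; rfl

theorem exists_toHom {x : G} (hx : x ∈ C.Sh) : ∃ u, K.toHom C u = x := by
  obtain ⟨a, ha, b, hb, z, hz, rfl⟩ := hx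
  obtain ⟨z', hz', h'⟩ := C.swap.b_a hb ha
  obtain ⟨u, rfl⟩ := K.exists_ua C ha
  obtain ⟨v, rfl⟩ := K.exists_ub C hb
  obtain ⟨w, hw⟩ := K.exists_uc C (Z.mul_mem hz' hz)
  refine ⟨⟨u, v, w⟩, ?_⟩
  rw [toHom_apply]
  simp only
  rw [← hw, h']
  group

/-- The isomorphism `Heis (Q g) ≃* S^`. -/
noncomputable def equiv : Heis (Q K.g) ≃* C.Sh :=
  MulEquiv.ofBijective ((K.toHom C).codRestrict C.Sh (K.toHom_mem C)) (by
    constructor
    · intro u v h
      exact K.toHom_injective C (congrArg Subtype.val h)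
    · rintro ⟨x, hx⟩
      obtain ⟨u, hu⟩ := K.exists_toHom C hx
      exact ⟨u, Subtype.ext hu⟩)

theorem coe_equiv (u : Heis (Q K.g)) :
    ((K.equiv C u : C.Sh) : G) = K.ub u.b * K.ua u.a * K.uc u.c := rfl

theorem t_toHom (u : Heis (Q K.g)) :
    E.t * K.toHom C u * E.t⁻¹ = K.toHom C (ofRing (tau K.g) u) := by
  rw [toHom_apply, toHom_apply, ofRing_apply, conj_mul_distrib, conj_mul_distrib, K.t_ua C,
    K.t_ub C, K.t_uc C]

theorem t_equiv (u : Heis (Q K.g)) :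
    E.t * (K.equiv C u : C.Sh) * E.t⁻¹ = (K.equiv C (ofRing (tau K.g) u) : C.Sh) := K.t_toHom C u

theorem equiv_symm_mem_J {x : C.Sh} : (K.equiv C).symm x ∈ J (Q K.g) ↔ (x : G) ∈ Z := by
  obtain ⟨u, rfl⟩ := (K.equiv C).surjective x
  rw [MulEquiv.symm_apply_apply, coe_equiv]
  constructor
  · rintro ⟨h1, h2⟩
    have h3 : K.ua 0 = 1 := by
      have := K.ua_add C 0 0; rw [add_zero] at this; exact left_eq_mul.1 this
    have h4 : K.ub 0 = 1 := by
      have := K.ub_add C 0 0; rw [add_zero] at this; exact left_eq_mul.1 this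
    rw [h1, h2, h3, h4, one_mul, one_mul]
    exact K.uc_mem C _
  · intro h
    have h1 : K.ub u.b * K.ua u.a ∈ Z := by
      have := Z.mul_mem h (Z.inv_mem (K.uc_mem C u.c))
      rwa [mul_inv_cancel_right] at this
    have h2 : K.ub u.b * K.ua u.a * (K.ub u.b * K.ua u.a)⁻¹ = 1 := mul_inv_cancel _
    obtain ⟨h3, h4, -⟩ := C.swap.factor (K.ub_mem C _) (K.ua_mem C _) (Z.inv_mem h1) h2
    exact ⟨K.ua_eq_one C h4, K.ub_eq_one C h3⟩

end Coord

end Cfsg.Agent.StdRank2.L3G
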