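import Mathlib.Algebra.CharP.Two
import Mathlib.Algebra.Field.Basic
import Mathlib.GroupTheory.Subgroup.Centralizer
import Mathlib.Tactic.Group
import Mathlib.Tactic.Ring
import Mathlib.Tactic.FieldSimp
import Mathlib.Tactic.LinearCombination

/-!
# Environment for the growth of the Sylow 2-subgroup of `L₃(q)`, `q ≥ 8` even

`Env F G`: root groups `xa, xb, xc : F → G` of the unipotent group `U` of `L₃(q)`, a torus `T`,
Weyl elements `na` (swapping `X_a`, `X_c`) and `nb` (swapping `X_b`, `X_c`), an involution `t`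
commuting with everything, `C_{C(t)}(E_i) = ⟨t⟩ E_i`, `C_{C(t) ∩ N(U)}(U/Z) ≤ ⟨t⟩ U` (no cores).

`Seed`: an abelian group `Z^` moving `t`, `[Z^, t] = Z = X_c`, centralising `U`.

`Grown`: the output, subgroups `A`, `B`, `Z` (`A = X_a^`, ...), elementary abelian, with
`[A, Z] = [B, Z] = 1`, `[A, B] ≤ Z`.
-/

set_option autoImplicit false
set_option linter.unusedSectionVars false

namespace Cfsg.Agent.StdRank2.L3G

open Subgroup

variable (F : Type*) [Field F] [CharP F 2] (G : Type*) [Group G]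

/-- The environment. -/
structure Env where
  xa : F → G
  xb : F → G
  xc : F → G
  t : G
  T : Subgroup G
  na : G
  nb : G
  mu : F
  mu_ne : mu ≠ 0
  mu_ne' : mu ≠ 1
  xa_add : ∀ x y, xa (x + y) = xa x * xa y
  xb_add : ∀ x y, xb (x + y) = xb x * xb y
  xc_add : ∀ x y, xc (x + y) = xc x * xc y
  c_a : ∀ x y, xc x * xa y = xa y * xc x
  c_b : ∀ x y, xc x * xb y = xb y * xc x
  a_b : ∀ x y, xa x * xb y = xc (x * y) * (xb y * xa x)
  u_inj : ∀ x y z, xa x * xb y * xc z = 1 → x = 0 ∧ y = 0 ∧ z = 0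
  t_sq : t * t = 1
  t_a : ∀ x, t * xa x = xa x * t
  t_b : ∀ x, t * xb x = xb x * t
  t_c : ∀ x, t * xc x = xc x * t
  t_na : t * na = na * t
  t_nb : t * nb = nb * t
  t_not : ∀ x y z, t ≠ xa x * xb y * xc z
  T_t : ∀ g ∈ T, t * g = g * t
  T_odd : ∀ g ∈ T, ∃ m, Odd m ∧ g ^ m = 1
  T_act : ∀ g ∈ T, ∃ u v : F, u ≠ 0 ∧ v ≠ 0 ∧ (∀ x, g * xa x * g⁻¹ = xa (u * x)) ∧
    (∀ x, g * xb x * g⁻¹ = xb (v * x))
  T_mu_one : ∃ g ∈ T, (∀ x, g * xa x * g⁻¹ = xa (mu * x)) ∧ (∀ x, g * xb x * g⁻¹ = xb x)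
  T_one_mu : ∃ g ∈ T, (∀ x, g * xa x * g⁻¹ = xa x) ∧ (∀ x, g * xb x * g⁻¹ = xb (mu * x))
  na_a : ∀ x, na * xa x * na⁻¹ = xc x
  na_c : ∀ x, na * xc x * na⁻¹ = xa x
  nb_b : ∀ x, nb * xb x * nb⁻¹ = xc x
  nb_c : ∀ x, nb * xc x * nb⁻¹ = xb x
  na_T : ∀ g, g ∈ T ↔ na * g * na⁻¹ ∈ T
  nb_T : ∀ g, g ∈ T ↔ nb * g * nb⁻¹ ∈ T
  cent_one : ∀ c, c * t = t * c → (∀ x, c * xa x = xa x * c) → (∀ x, c * xc x = xc x * c) →
    ∃ x z, c = xa x * xc z ∨ c = t * (xa x * xc z)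
  cent_two : ∀ c, c * t = t * c → (∀ x, c * xb x = xb x * c) → (∀ x, c * xc x = xc x * c) →
    ∃ x z, c = xb x * xc z ∨ c = t * (xb x * xc z)
  cent_U : ∀ c, c * t = t * c → (∀ x, ∃ z, c * xa x * c⁻¹ = xc z * xa x) →
    (∀ x, ∃ z, c * xb x * c⁻¹ = xc z * xb x) →
    ∃ x y z, c = xa x * xb y * xc z ∨ c = t * (xa x * xb y * xc z)

variable {F G}

/-- A group `R` over the root group `x : F → G`: `R` contains `x F`, `[R, t] = x F`,
`C_R(t) = x F`, `R` is abelian and normalised by the torus. -/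
structure PreRoot (E : Env F G) (x : F → G) (R : Subgroup G) : Prop where
  mem : ∀ c, x c ∈ R
  comm : ∀ g ∈ R, ∀ k ∈ R, g * k = k * g
  conj_t : ∀ g ∈ R, ∃ c, g * E.t * g⁻¹ = x c * E.t
  onto : ∀ c, ∃ g ∈ R, g * E.t * g⁻¹ = x c * E.t
  cent : ∀ g ∈ R, g * E.t = E.t * g → ∃ c, g = x c
  conj_T : ∀ k ∈ E.T, ∀ g ∈ R, k * g * k⁻¹ ∈ R

/-- The input. -/
structure Seed (E : Env F G) (Z : Subgroup G) : Prop extends PreRoot E E.xc Z where
  c_a : ∀ g ∈ Z, ∀ x, g * E.xa x = E.xa x * g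
  c_b : ∀ g ∈ Z, ∀ x, g * E.xb x = E.xb x * g

/-- The output: grown root groups. -/
structure Grown (E : Env F G) (A B Z : Subgroup G) : Prop where
  rootA : PreRoot E E.xa A
  rootB : PreRoot E E.xb B
  rootZ : PreRoot E E.xc Z
  A_sq : ∀ g ∈ A, g * g = 1
  B_sq : ∀ g ∈ B, g * g = 1
  Z_sq : ∀ g ∈ Z, g * g = 1
  Z_A : ∀ g ∈ Z, ∀ k ∈ A, g * k = k * g
  Z_B : ∀ g ∈ Z, ∀ k ∈ B, g * k = k * g
  A_B : ∀ g ∈ A, ∀ k ∈ B, g * k * g⁻¹ * k⁻¹ ∈ Z
  na_A : ∀ g, g ∈ A ↔ E.na * g * E.na⁻¹ ∈ Z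
  na_Z : ∀ g, g ∈ Z ↔ E.na * g * E.na⁻¹ ∈ A
  nb_B : ∀ g, g ∈ B ↔ E.nb * g * E.nb⁻¹ ∈ Z
  nb_Z : ∀ g, g ∈ Z ↔ E.nb * g * E.nb⁻¹ ∈ B
  T_a : ∀ k ∈ E.T, (∀ x, k * E.xa x = E.xa x * k) → ∀ g ∈ A, k * g = g * k
  T_b : ∀ k ∈ E.T, (∀ x, k * E.xb x = E.xb x * k) → ∀ g ∈ B, k * g = g * k
  T_c : ∀ k ∈ E.T, (∀ x, k * E.xc x = E.xc x * k) → ∀ g ∈ Z, k * g = g * k

/-! ### Generalities -/

theorem hom_zero {f : F → G} (h : ∀ x y, f (x + y) = f x * f y) : f 0 = 1 := by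
  have := h 0 0
  rw [add_zero] at this
  exact left_eq_mul.1 this

theorem inv_of_sq {x : G} (h : x * x = 1) : x⁻¹ = x := inv_eq_of_mul_eq_one_right h

theorem conj_of_comm {g x : G} (h : g * x = x * g) : g * x * g⁻¹ = x := by
  rw [h, mul_inv_cancel_right]

theorem comm_of_conj {g x : G} (h : g * x * g⁻¹ = x) : g * x = x * g :=
  mul_inv_eq_iff_eq_mul.1 h

theorem sub_ne {m : F} (h : m ≠ 1) : m + 1 ≠ 0 := by
  intro h1
  apply h
  have : m = -1 := eq_neg_of_add_eq_zero_left h1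
  rw [this, CharTwo.neg_eq]

namespace Env

variable (E : Env F G)

theorem xa_zero : E.xa 0 = 1 := hom_zero E.xa_add
theorem xb_zero : E.xb 0 = 1 := hom_zero E.xb_add
theorem xc_zero : E.xc 0 = 1 := hom_zero E.xc_add

theorem xa_sq (x : F) : E.xa x * E.xa x = 1 := by
  rw [← E.xa_add, CharTwo.add_self_eq_zero, xa_zero]
theorem xb_sq (x : F) : E.xb x * E.xb x = 1 := by
  rw [← E.xb_add, CharTwo.add_self_eq_zero, xb_zero]
theorem xc_sq (x : F) : E.xc x * E.xc x = 1 := by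
  rw [← E.xc_add, CharTwo.add_self_eq_zero, xc_zero]

theorem xa_inv (x : F) : (E.xa x)⁻¹ = E.xa x := inv_of_sq (E.xa_sq x)
theorem xb_inv (x : F) : (E.xb x)⁻¹ = E.xb x := inv_of_sq (E.xb_sq x)
theorem xc_inv (x : F) : (E.xc x)⁻¹ = E.xc x := inv_of_sq (E.xc_sq x)
theorem t_inv : E.t⁻¹ = E.t := inv_of_sq E.t_sq

theorem xa_eq_one {x : F} (h : E.xa x = 1) : x = 0 :=
  (E.u_inj x 0 0 (by rw [xb_zero, xc_zero, mul_one, mul_one, h])).1

theorem xb_eq_one {x : F} (h : E.xb x = 1) : x = 0 :=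
  (E.u_inj 0 x 0 (by rw [xa_zero, xc_zero, mul_one, one_mul, h])).2.1

theorem xc_eq_one {x : F} (h : E.xc x = 1) : x = 0 :=
  (E.u_inj 0 0 x (by rw [xa_zero, xb_zero, one_mul, one_mul, h])).2.2

theorem add_eq_zero' {x y : F} (h : x + y = 0) : x = y := by
  rw [eq_neg_of_add_eq_zero_left h, CharTwo.neg_eq]

theorem xa_inj {x y : F} (h : E.xa x = E.xa y) : x = y := by
  apply add_eq_zero'
  apply E.xa_eq_one
  rw [E.xa_add, h, E.xa_sq]

theorem xb_inj {x y : F} (h : E.xb x = E.xb y) : x = y := by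
  apply add_eq_zero'
  apply E.xb_eq_one
  rw [E.xb_add, h, E.xb_sq]

theorem xc_inj {x y : F} (h : E.xc x = E.xc y) : x = y := by
  apply add_eq_zero'
  apply E.xc_eq_one
  rw [E.xc_add, h, E.xc_sq]

/-- The action of the torus on `X_c`. -/
theorem act_c {g : G} {u v : F} (ha : ∀ x, g * E.xa x * g⁻¹ = E.xa (u * x))
    (hb : ∀ x, g * E.xb x * g⁻¹ = E.xb (v * x)) (x : F) :
    g * E.xc x * g⁻¹ = E.xc (u * v * x) := by
  have h1 : E.xc (x * 1) = E.xa x * E.xb 1 * (E.xa x)⁻¹ * (E.xb 1)⁻¹ := by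
    rw [E.a_b]; group
  have h2 : E.xc ((u * x) * (v * 1))
      = E.xa (u * x) * E.xb (v * 1) * (E.xa (u * x))⁻¹ * (E.xb (v * 1))⁻¹ := by
    rw [E.a_b]; group
  rw [mul_one] at h1
  have h3 : u * v * x = (u * x) * (v * 1) := by ring
  rw [h3, h2, h1, ← ha, ← hb]
  group

/-- The swapped environment. -/
@[simps]
def swap : Env F G where
  xa := E.xb
  xb := E.xa
  xc := E.xc
  t := E.t
  T := E.T
  na := E.nb
  nb := E.na
  mu := E.mu
  mu_ne := E.mu_ne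
  mu_ne' := E.mu_ne'
  xa_add := E.xb_add
  xb_add := E.xa_add
  xc_add := E.xc_add
  c_a := E.c_b
  c_b := E.c_a
  a_b x y := by
    have h := E.a_b y x
    have h1 : E.xc (x * y) * (E.xc (y * x) * (E.xb x * E.xa y)) = E.xb x * E.xa y := by
      rw [← mul_assoc, mul_comm x y, E.xc_sq, one_mul]
    rw [h, h1]
  u_inj x y z h := by
    have h1 : E.xa y * E.xb x * E.xc (y * x + z) = 1 := by
      rw [E.a_b, E.xc_add]
      have h2 : E.xc (y * x) * (E.xb x * E.xa y) * (E.xc (y * x) * E.xc z)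
          = E.xc (y * x) * ((E.xb x * E.xa y) * E.xc z) * E.xc (y * x) := by
        rw [← E.xc_add, add_comm (y * x) z, E.xc_add]
        simp only [mul_assoc]
      rw [h2, h, mul_one, E.xc_sq]
    obtain ⟨h3, h4, h5⟩ := E.u_inj y x _ h1
    subst h3 h4
    refine ⟨rfl, rfl, ?_⟩
    simpa using h5
  t_sq := E.t_sq
  t_a := E.t_b
  t_b := E.t_a
  t_c := E.t_c
  t_na := E.t_nb
  t_nb := E.t_na
  t_not x y z h := by
    refine E.t_not y x (y * x + z) ?_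
    rw [h, E.a_b, E.xc_add]
    have h2 : E.xc (y * x) * (E.xb x * E.xa y) * (E.xc (y * x) * E.xc z)
        = (E.xc (y * x) * E.xc (y * x)) * ((E.xb x * E.xa y) * E.xc z) := by
      have h3 : (E.xb x * E.xa y) * E.xc (y * x) = E.xc (y * x) * (E.xb x * E.xa y) := by
        rw [mul_assoc, ← E.c_a, ← mul_assoc, ← E.c_b, mul_assoc]
      calc E.xc (y * x) * (E.xb x * E.xa y) * (E.xc (y * x) * E.xc z)
          = E.xc (y * x) * ((E.xb x * E.xa y) * E.xc (y * x)) * E.xc z := by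
            simp only [mul_assoc]
        _ = _ := by rw [h3]; simp only [mul_assoc]
    rw [h2, E.xc_sq, one_mul]
  T_t := E.T_t
  T_odd := E.T_odd
  T_act g hg := by
    obtain ⟨u, v, hu, hv, h1, h2⟩ := E.T_act g hg
    exact ⟨v, u, hv, hu, h2, h1⟩
  T_mu_one := by
    obtain ⟨g, hg, h1, h2⟩ := E.T_one_mu
    exact ⟨g, hg, h2, h1⟩
  T_one_mu := by
    obtain ⟨g, hg, h1, h2⟩ := E.T_mu_one
    exact ⟨g, hg, h2, h1⟩
  na_a := E.nb_b
  na_c := E.nb_c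
  nb_b := E.na_a
  nb_c := E.na_c
  na_T := E.nb_T
  nb_T := E.na_T
  cent_one := E.cent_two
  cent_two := E.cent_one
  cent_U c h1 h2 h3 := by
    obtain ⟨x, y, z, h⟩ := E.cent_U c h1 h3 h2
    refine ⟨y, x, x * y + z, ?_⟩
    have h4 : E.xa x * E.xb y * E.xc z = E.xb y * E.xa x * E.xc (x * y + z) := by
      rw [E.a_b, E.xc_add]
      have h3 : (E.xb y * E.xa x) * E.xc (x * y) = E.xc (x * y) * (E.xb y * E.xa x) := by
        rw [mul_assoc, ← E.c_a, ← mul_assoc, ← E.c_b, mul_assoc]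
      rw [← mul_assoc (E.xb y * E.xa x), h3]
    rw [h4] at h
    exact h

end Env

end Cfsg.Agent.StdRank2.L3G
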