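import Mathlib.Algebra.CharP.Two
import Mathlib.FieldTheory.Finite.Basic
import Mathlib.LinearAlgebra.Basis.VectorSpace
import Mathlib.Algebra.Module.ZMod

/-!
# Linear algebra for the coordinates: equivariant sections, linearity from cubes
-/

set_option autoImplicit false

namespace Cfsg.Agent.StdRank2.L3G

theorem exists_equivariant_section {F V : Type*} [Field F] [Finite F] [CharP F 2]
    [AddCommGroup V] (h2 : ∀ v : V, v + v = 0) (π : V →+ F) (hπ : Function.Surjective π)
    (ρ : Fˣ → V →+ V) (hρ : ∀ u v x, ρ (u * v) x = ρ u (ρ v x))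
    (hπρ : ∀ u x, π (ρ u x) = u * π x) :
    ∃ p : F →+ V, (∀ s, π (p s) = s) ∧ ∀ (u : Fˣ) s, ρ u (p s) = p (u * s) := by
  classical
  have : Fintype F := Fintype.ofFinite F
  let _ : Module (ZMod 2) V := AddCommGroup.zmodModule (n := 2) (fun v => by rw [two_nsmul, h2])
  let _ : Module (ZMod 2) F := AddCommGroup.zmodModule (n := 2) (fun v => by
    rw [two_nsmul, CharTwo.add_self_eq_zero])
  obtain ⟨σ, hσ⟩ := LinearMap.exists_rightInverse_of_surjective (π.toZModLinearMap 2)
    (LinearMap.range_eq_top.2 hπ)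
  have hσ' : ∀ s, π (σ s) = s := fun s => LinearMap.congr_fun hσ s
  let p : F →+ V :=
    { toFun := fun s => ∑ u : Fˣ, ρ u⁻¹ (σ (u * s))
      map_zero' := by simp
      map_add' := by
        intro s s'
        rw [← Finset.sum_add_distrib]
        refine Finset.sum_congr rfl fun u _ => ?_
        rw [mul_add, map_add, map_add] }
  have hp : ∀ s, p s = ∑ u : Fˣ, ρ u⁻¹ (σ (u * s)) := fun _ => rfl
  refine ⟨p, ?_, ?_⟩
  · intro s
    rw [hp, map_sum]
    have h1 : ∀ u : Fˣ, π (ρ u⁻¹ (σ (u * s))) = s := by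
      intro u
      rw [hπρ, hσ', ← mul_assoc, Units.inv_mul, one_mul]
    rw [Finset.sum_congr rfl (fun u _ => h1 u), Finset.sum_const, Finset.card_univ,
      Fintype.card_units, nsmul_eq_mul]
    have h3 : ((Fintype.card F - 1 : ℕ) : F) = 1 := by
      rw [Nat.cast_sub Fintype.card_pos]
      rw [FiniteField.cast_card_eq_zero, Nat.cast_one, zero_sub, CharTwo.neg_eq]
    rw [h3, one_mul]
  · intro v s
    rw [hp, hp, map_sum]
    refine Fintype.sum_equiv (Equiv.mulRight v⁻¹) _ _ ?_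
    intro u
    rw [← hρ]
    simp only [Equiv.coe_mulRight]
    have e1 : (u * v⁻¹)⁻¹ = v * u⁻¹ := by rw [mul_inv_rev, inv_inv]
    have e2 : ((u * v⁻¹ : Fˣ) : F) * (v * s) = u * s := by
      rw [Units.val_mul, mul_assoc, ← mul_assoc (((v⁻¹ : Fˣ)) : F), Units.inv_mul, one_mul]
    rw [e1, e2]

/-- An additive map commuting with cubes is linear. -/
theorem lin_of_cubes {F : Type*} [Field F] [CharP F 2] (f : F → F)
    (hf : ∀ x y, f (x + y) = f x + f y) (h : ∀ u s, u ≠ 0 → f (u ^ 3 * s) = u ^ 3 * f s)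
    (hq : ∃ x : F, x ^ 4 ≠ x) (s : F) : f s = f 1 * s := by
  have hf0 : f 0 = 0 := by
    have := hf 0 0
    rw [add_zero] at this
    exact left_eq_add.1 this
  have h' : ∀ u s, f (u ^ 3 * s) = u ^ 3 * f s := by
    intro u s
    by_cases hu : u = 0
    · subst hu; simp [hf0]
    · exact h u s hu
  have hadd : ∀ b c, (∀ s, f (b * s) = b * f s) → (∀ s, f (c * s) = c * f s) →
      ∀ s, f ((b + c) * s) = (b + c) * f s := by
    intro b c hb hc s
    rw [add_mul, hf, hb, hc, add_mul]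
  have hmul : ∀ b c, (∀ s, f (b * s) = b * f s) → (∀ s, f (c * s) = c * f s) →
      ∀ s, f ((b * c) * s) = (b * c) * f s := by
    intro b c hb hc s
    rw [mul_assoc, hb, hc, mul_assoc]
  have h1 : ∀ s, f (1 * s) = 1 * f s := by intro s; rw [one_mul, one_mul]
  have htr : ∀ x s, f ((x ^ 2 + x) * s) = (x ^ 2 + x) * f s := by
    intro x
    have e : x ^ 2 + x = (x + 1) ^ 3 + (x ^ 3 + 1) := by
      have e3 : (3 : F) = 1 := by
        have : (3 : F) = 2 + 1 := by norm_num
        rw [this, CharTwo.two_eq_zero, zero_add]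
      have e2 : x ^ 3 + x ^ 3 = 0 := CharTwo.add_self_eq_zero _
      have e4 : (1 : F) + 1 = 0 := CharTwo.add_self_eq_zero _
      linear_combination (-x ^ 2 - x) * e3 - e2 - e4
    rw [e]
    exact hadd _ _ (h' _) (hadd _ _ (h' _) h1)
  obtain ⟨x0, hx0⟩ := hq
  set a := x0 ^ 2 + x0 with ha
  have ha' : ∀ s, f (a * s) = a * f s := htr x0
  have ha2 : a ^ 2 + a ≠ 0 := by
    intro h0
    have h3 : a ^ 2 + a = a * (a + 1) := by ring
    rw [h3] at h0
    apply hx0
    have e2 : (2 : F) = 0 := CharTwo.two_eq_zero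
    rcases mul_eq_zero.1 h0 with h4 | h4
    · rw [ha] at h4
      linear_combination (x0 ^ 2 - x0 + 1) * h4 - x0 * e2
    · rw [ha] at h4
      linear_combination (x0 ^ 2 - x0) * h4
  have hx : ∀ x s, f (x * s) = x * f s := by
    intro x s
    have e : (a ^ 2 + a) * x = a * a * (x ^ 2 + x) + ((a * x) ^ 2 + a * x) := by
      have e2 : a ^ 2 * x ^ 2 + a ^ 2 * x ^ 2 = 0 := CharTwo.add_self_eq_zero _
      linear_combination (-1 : F) * e2
    have h5 : f (((a ^ 2 + a) * x) * s) = ((a ^ 2 + a) * x) * f s := by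
      rw [e]
      exact hadd _ _ (hmul _ _ (hmul _ _ ha' ha') (htr x)) (htr _) s
    have h6 : f ((a ^ 2 + a) * (x * s)) = (a ^ 2 + a) * f (x * s) := htr a (x * s)
    rw [← mul_assoc, h5, mul_assoc] at h6
    exact (mul_left_cancel₀ ha2 h6).symm
  have := hx s 1
  rw [mul_one] at this
  rw [this, mul_comm]

end Cfsg.Agent.StdRank2.L3G
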