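import Cfsg.Agent.StdRank2.L3G.Sh
import Cfsg.Agent.StdRank2.L3G.Lin

/-!
# Coordinates on the grown group, `q ≥ 8`
-/

set_option autoImplicit false
set_option linter.unusedSectionVars false

namespace Cfsg.Agent.StdRank2.L3G

open Subgroup

variable {F : Type*} [Field F] [CharP F 2] {G : Type*} [Group G]

/-- The full torus of `PSL 3 F` (weights `(u, u)`, `(u³, 1)`, `(1, u³)`) and `|F| > 4`. -/
structure Env.Full (E : Env F G) : Prop where
  diag : ∀ u : F, u ≠ 0 → ∃ k ∈ E.T, (∀ x, k * E.xa x * k⁻¹ = E.xa (u * x)) ∧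
    (∀ x, k * E.xb x * k⁻¹ = E.xb (u * x))
  cube_a : ∀ u : F, u ≠ 0 → ∃ k ∈ E.T, (∀ x, k * E.xa x * k⁻¹ = E.xa (u ^ 3 * x)) ∧
    (∀ x, k * E.xb x * k⁻¹ = E.xb x)
  cube_b : ∀ u : F, u ≠ 0 → ∃ k ∈ E.T, (∀ x, k * E.xa x * k⁻¹ = E.xa x) ∧
    (∀ x, k * E.xb x * k⁻¹ = E.xb (u ^ 3 * x))
  big : ∃ x : F, x ^ 4 ≠ x

theorem PreRoot.exists_section [Finite F] {E : Env F G} {x : F → G} {R : Subgroup G}
    (P : PreRoot E x R) (hsq : ∀ g ∈ R, g * g = 1) (hx : ∀ a b, x (a + b) = x a * x b)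
    (hx1 : ∀ a, x a = 1 → a = 0)
    (hfull : ∀ u : F, u ≠ 0 → ∃ k ∈ E.T, ∀ c, k * x c * k⁻¹ = x (u * c)) :
    ∃ p : F → G, (∀ s, p s ∈ R) ∧ (∀ s r, p (s + r) = p s * p r) ∧
      (∀ s, p s * E.t * (p s)⁻¹ = x s * E.t) ∧
      ∀ k ∈ E.T, ∀ u : F, (∀ c, k * x c * k⁻¹ = x (u * c)) → ∀ s, k * p s * k⁻¹ = p (u * s) := by
  classical
  have hinj : ∀ a b, x a = x b → a = b := by
    intro a b h
    apply Env.add_eq_zero'
    apply hx1
    rw [hx, h, ← hx, CharTwo.add_self_eq_zero, hom_zero hx]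
  have hx2 : ∀ c, x c * x c = 1 := fun c => by
    rw [← hx, CharTwo.add_self_eq_zero, hom_zero hx]
  let _ : CommGroup R := { (inferInstance : Group R) with
    mul_comm := fun a b => Subtype.ext (P.comm _ a.2 _ b.2) }
  choose c hc using P.conj_t
  let π : Additive R →+ F := AddMonoidHom.mk' (fun r => c r.toMul.1 r.toMul.2) (by
    intro r r'
    apply hinj
    have h1 := hc _ (r + r').toMul.2
    have h2 := hc _ r.toMul.2
    have h3 := hc _ r'.toMul.2
    apply mul_right_cancel (b := E.t)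
    rw [← h1]
    have e1 : (((r + r').toMul : R) : G) = (r.toMul : G) * (r'.toMul : G) := rfl
    rw [e1]
    have e2 : (r.toMul : G) * (r'.toMul : G) * E.t * ((r.toMul : G) * (r'.toMul : G))⁻¹
        = (r.toMul : G) * ((r'.toMul : G) * E.t * (r'.toMul : G)⁻¹) * (r.toMul : G)⁻¹ := by group
    rw [e2, h3, conj_mul_distrib, conj_of_comm (P.comm _ r.toMul.2 _ (P.mem _)), h2, ← mul_assoc,
      ← hx, add_comm])
  have hπ : ∀ (r : R), (r : G) * E.t * (r : G)⁻¹ = x (π (Additive.ofMul r)) * E.t := fun r =>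
    hc _ r.2
  have hfull' : ∀ u : Fˣ, ∃ k ∈ E.T, ∀ c, k * x c * k⁻¹ = x (u * c) := fun u => hfull u u.ne_zero
  choose k hkT hk using hfull'
  let ρ : Fˣ → Additive R →+ Additive R := fun u => AddMonoidHom.mk'
    (fun r => Additive.ofMul (⟨k u * r.toMul.1 * (k u)⁻¹, P.conj_T _ (hkT u) _ r.toMul.2⟩ : R)) (by
    intro r r'
    apply Additive.toMul.injective
    apply Subtype.ext
    change k u * (r.toMul.1 * r'.toMul.1) * (k u)⁻¹ = _
    rw [conj_mul_distrib]
    rfl)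
  have hρ' : ∀ u (r : R), (((ρ u (Additive.ofMul r)).toMul : R) : G) = k u * r * (k u)⁻¹ :=
    fun _ _ => rfl
  -- two torus elements with the same weight act in the same way
  have hsame : ∀ k1 ∈ E.T, ∀ k2 ∈ E.T, (∀ c, k1 * x c * k1⁻¹ = k2 * x c * k2⁻¹) →
      ∀ r ∈ R, k1 * r * k1⁻¹ = k2 * r * k2⁻¹ := by
    intro k1 h1 k2 h2 h r hr
    have h3 := P.comm_of_T hx2 (E.T.mul_mem (E.T.inv_mem h2) h1) (fun c => by
      apply comm_of_conj
      have e1 : k2⁻¹ * k1 * x c * (k2⁻¹ * k1)⁻¹ = k2⁻¹ * (k1 * x c * k1⁻¹) * k2 := by group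
      rw [e1, h]; group) hr
    have h4 := conj_of_comm h3
    have e1 : k1 * r * k1⁻¹ = k2 * (k2⁻¹ * k1 * r * (k2⁻¹ * k1)⁻¹) * k2⁻¹ := by group
    rw [e1, h4]
  obtain ⟨p, hp1, hp2⟩ := exists_equivariant_section (F := F) (V := Additive R) (fun v => by
      apply Additive.toMul.injective
      exact Subtype.ext (hsq _ v.toMul.2)) π (fun s => by
      obtain ⟨g, hg, hgt⟩ := P.onto s
      refine ⟨Additive.ofMul ⟨g, hg⟩, ?_⟩
      apply hinj
      have := hπ ⟨g, hg⟩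
      rw [hgt] at this
      exact (mul_right_cancel this).symm) ρ (by
      intro u v r
      apply Additive.toMul.injective
      apply Subtype.ext
      change k (u * v) * r.toMul.1 * (k (u * v))⁻¹ = k u * (k v * r.toMul.1 * (k v)⁻¹) * (k u)⁻¹
      have e1 : k u * (k v * r.toMul.1 * (k v)⁻¹) * (k u)⁻¹
          = (k u * k v) * r.toMul.1 * (k u * k v)⁻¹ := by group
      rw [e1]
      refine hsame _ (hkT _) _ (E.T.mul_mem (hkT u) (hkT v)) ?_ _ r.toMul.2
      intro c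
      have e2 : k u * k v * x c * (k u * k v)⁻¹ = k u * (k v * x c * (k v)⁻¹) * (k u)⁻¹ := by group
      rw [e2, hk, hk, hk, Units.val_mul, mul_assoc]) (by
      intro u r
      apply hinj
      have h1 := hπ ((ρ u r).toMul)
      have h2 := hπ (r.toMul)
      have e0 : (((ρ u r).toMul : R) : G) = k u * (r.toMul : G) * (k u)⁻¹ := rfl
      rw [e0] at h1
      have e1 : (k u * (r.toMul : G) * (k u)⁻¹) * E.t * (k u * (r.toMul : G) * (k u)⁻¹)⁻¹
          = k u * ((r.toMul : G) * ((k u)⁻¹ * E.t * k u) * (r.toMul : G)⁻¹) * (k u)⁻¹ := by group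
      have e2 : (k u)⁻¹ * E.t * k u = E.t := conj_of_comm' (E.T_t _ (hkT u)).symm
      rw [e1, e2, h2, conj_mul_distrib, hk, conj_of_comm (E.T_t _ (hkT u)).symm] at h1
      exact (mul_right_cancel h1).symm)
  refine ⟨fun s => ((p s).toMul : R), fun s => (p s).toMul.2, ?_, ?_, ?_⟩
  · intro s r
    change (((p (s + r)).toMul : R) : G) = (((p s).toMul : R) : G) * (((p r).toMul : R) : G)
    rw [map_add]
    rfl
  · intro s
    have h1 := hπ (p s).toMul
    have h2 : π (Additive.ofMul (p s).toMul) = s := hp1 s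
    rw [h2] at h1
    exact h1
  · intro k' hk' u hu s
    have hu0 : u ≠ 0 := by
      rintro rfl
      have h1 := hu 1
      rw [zero_mul, hom_zero hx] at h1
      have h2 : x 1 = 1 := by
        have : x 1 = k'⁻¹ * (k' * x 1 * k'⁻¹) * k' := by group
        rw [this, h1]; group
      exact one_ne_zero (hx1 1 h2)
    have h1 := hp2 (Units.mk0 u hu0) s
    have h2 := congrArg (fun r : Additive R => ((r.toMul : R) : G)) h1
    simp only [Units.val_mk0] at h2
    change k' * (((p s).toMul : R) : G) * k'⁻¹ = (((p (u * s)).toMul : R) : G)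
    rw [← h2]
    refine hsame _ hk' _ (hkT _) ?_ _ (p s).toMul.2
    intro c
    rw [hu, hk, Units.val_mk0]

/-- Coordinates on the grown group. -/
structure Coord (E : Base F G) (A B Z : Subgroup G) where
  pa : F → G
  pb : F → G
  pc : F → G
  g : F
  pa_mem : ∀ s, pa s ∈ A
  pb_mem : ∀ s, pb s ∈ B
  pc_mem : ∀ s, pc s ∈ Z
  pa_add : ∀ s r, pa (s + r) = pa s * pa r
  pb_add : ∀ s r, pb (s + r) = pb s * pb r
  pc_add : ∀ s r, pc (s + r) = pc s * pc r
  pa_t : ∀ s, pa s * E.t * (pa s)⁻¹ = E.xa s * E.t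
  pb_t : ∀ s, pb s * E.t * (pb s)⁻¹ = E.xb s * E.t
  pc_t : ∀ s, pc s * E.t * (pc s)⁻¹ = E.xc s * E.t
  pa_xb : ∀ s r, cm (pa s) (E.xb r) = pc (s * r)
  xa_pb : ∀ s r, cm (E.xa s) (pb r) = pc (s * r)
  pa_pb : ∀ s r, cm (pa s) (pb r) = pc (s * r) * E.xc (g * (s * r))

namespace Core

variable {E : Base F G} {A B Z : Subgroup G} (C : Core E A B Z)
include C

theorem cm_mem {a b : G} (ha : a ∈ A) (hb : b ∈ B) : cm a b ∈ Z := C.A_B a ha b hb

theorem cm_mul_l {a a' b : G} (ha : a ∈ A) (ha' : a' ∈ A) (hb : b ∈ B) :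
    cm (a * a') b = cm a b * cm a' b := by
  have h := C.cm_mem ha' hb
  rw [cm_mul_left, conj_of_comm (C.Z_A _ h a ha).symm, C.Z_comm h (C.cm_mem ha hb)]

theorem cm_mul_r {a b b' : G} (ha : a ∈ A) (hb : b ∈ B) (hb' : b' ∈ B) :
    cm a (b * b') = cm a b * cm a b' := by
  rw [cm_mul_right, conj_of_comm (C.Z_B _ (C.cm_mem ha hb') b hb).symm]

theorem cm_act {a : G} {r s : F} (ha : a ∈ A) (hs : a * E.t * a⁻¹ = E.xa s * E.t) :
    cm a (E.xb r) * E.t * (cm a (E.xb r))⁻¹ = E.xc (s * r) * E.t := by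
  have h := C.cm_b_A_act (r := r) ha hs
  have e : cm a (E.xb r) = cm (E.xb r) a := by
    have h1 : cm a (E.xb r) = (cm (E.xb r) a)⁻¹ := by unfold cm; group
    have h2 : cm (E.xb r) a ∈ Z := by
      have := Z.inv_mem (C.cm_mem ha (C.memB r))
      rw [h1, inv_inv] at this
      exact this
    rw [h1, inv_of_sq (C.Z_sq _ h2)]
  rw [e, h]

theorem cm_xa_act {b : G} {r s : F} (hb : b ∈ B) (hs : b * E.t * b⁻¹ = E.xb s * E.t) :
    cm (E.xa r) b * E.t * (cm (E.xa r) b)⁻¹ = E.xc (r * s) * E.t := by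
  have h := C.swap.cm_b_A_act (r := r) hb hs
  simp only [Base.swap_xb, Base.swap_t, Base.swap_xc] at h
  rw [h, mul_comm]

/-- elements of `Z^` with the same action on `t`. -/
theorem Z_eq {z z' : G} (hz : z ∈ Z) (hz' : z' ∈ Z) (h : z * E.t * z⁻¹ = z' * E.t * z'⁻¹) :
    ∃ c, z = z' * E.xc c := by
  obtain ⟨c, hc⟩ := C.centZ (z'⁻¹ * z) (Z.mul_mem (Z.inv_mem hz') hz) (by
    apply comm_of_conj
    have : z'⁻¹ * z * E.t * (z'⁻¹ * z)⁻¹ = z'⁻¹ * (z * E.t * z⁻¹) * z' := by group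
    rw [this, h]; group)
  exact ⟨c, by rw [← hc]; group⟩

theorem t_conj_of {x p : G} (hx : x * x = 1) (hxp : x * p = p * x)
    (h : p * E.t * p⁻¹ = x * E.t) : E.t * p * E.t⁻¹ = p * x := by
  have h1 : p * E.t = x * E.t * p := by rw [← h, inv_mul_cancel_right]
  have h2 : E.t * p = x * p * E.t := by
    calc E.t * p = x * (x * E.t * p) := by rw [mul_assoc x, ← mul_assoc x x, hx, one_mul]
      _ = x * p * E.t := by rw [← h1, mul_assoc]
  rw [h2, mul_inv_cancel_right, hxp]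

end Core

theorem Grown.exists_coord [Finite F] {E : Env F G} {A B Z : Subgroup G} (h : Grown E A B Z)
    (hF : E.Full) : Nonempty (Coord E.base A B Z) := by
  classical
  have C := h.core
  obtain ⟨pa, pa_mem, pa_add, pa_t, pa_T⟩ := h.rootA.exists_section h.A_sq E.xa_add
    (fun _ => E.xa_eq_one) (fun u hu => by
      obtain ⟨k, hk, h1, -⟩ := hF.diag u hu
      exact ⟨k, hk, h1⟩)
  obtain ⟨pb, pb_mem, pb_add, pb_t, pb_T⟩ := h.rootB.exists_section h.B_sq E.xb_add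
    (fun _ => E.xb_eq_one) (fun u hu => by
      obtain ⟨k, hk, -, h1⟩ := hF.diag u hu
      exact ⟨k, hk, h1⟩)
  obtain ⟨pc, pc_mem, pc_add, pc_t, pc_T⟩ := h.rootZ.exists_section h.Z_sq E.xc_add
    (fun _ => E.xc_eq_one) (fun u hu => by
      obtain ⟨v, rfl⟩ : ∃ v : F, u = v * v := by
        have := FiniteField.isSquare_of_char_two (F := F) (ringChar.eq F 2) u
        exact this
      have hv : v ≠ 0 := fun h0 => hu (by rw [h0, mul_zero])
      obtain ⟨k, hk, h1, h2⟩ := hF.diag v hv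
      exact ⟨k, hk, E.act_c h1 h2⟩)
  -- commutator of `pa` and `xb`
  have hex1 : ∀ s r, ∃ c, cm (pa s) (E.xb r) = pc (s * r) * E.xc c := by
    intro s r
    refine C.Z_eq (C.cm_mem (pa_mem s) (C.memB r)) (pc_mem _) ?_
    have h1 := C.cm_act (r := r) (pa_mem s) (pa_t s)
    simp only [Env.base_xb, Env.base_xc, Env.base_t] at h1 ⊢
    rw [h1, pc_t]
  have hex2 : ∀ s r, ∃ c, cm (E.xa s) (pb r) = pc (s * r) * E.xc c := by
    intro s r
    refine C.Z_eq (C.cm_mem (C.memA s) (pb_mem r)) (pc_mem _) ?_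
    have h1 := C.cm_xa_act (r := s) (pb_mem r) (pb_t r)
    simp only [Env.base_xa, Env.base_xc, Env.base_t] at h1 ⊢
    rw [h1, pc_t]
  choose f1 hf1 using hex1
  choose f2 hf2 using hex2
  -- the linearity argument
  have lin : ∀ f : F → F → F, (∀ s s' r, f (s + s') r = f s r + f s' r) →
      (∀ s r r', f s (r + r') = f s r + f s r') →
      (∀ u s r, u ≠ 0 → f (u ^ 3 * s) r = u ^ 3 * f s r) →
      (∀ u s r, u ≠ 0 → f s (u ^ 3 * r) = u ^ 3 * f s r) → ∀ s r, f s r = f 1 1 * (s * r) := by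
    intro f h1 h2 h3 h4 s r
    have h5 := lin_of_cubes (fun s => f s r) (fun x y => h1 x y r) (fun u s hu => h3 u s r hu)
      hF.big s
    have h6 := lin_of_cubes (fun r => f 1 r) (fun x y => h2 1 x y) (fun u s hu => h4 u 1 s hu)
      hF.big r
    rw [h5, h6]
    ring
  have conj_cm : ∀ k ∈ E.T, ∀ u v : F, (∀ x, k * E.xa x * k⁻¹ = E.xa (u * x)) →
      (∀ x, k * E.xb x * k⁻¹ = E.xb (v * x)) →
      (∀ s, k * pa s * k⁻¹ = pa (u * s)) ∧ (∀ s, k * pb s * k⁻¹ = pb (v * s)) ∧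
      (∀ s, k * pc s * k⁻¹ = pc (u * v * s)) ∧ (∀ s, k * E.xc s * k⁻¹ = E.xc (u * v * s)) := by
    intro k hk u v hu hv
    have h1 := E.act_c hu hv
    exact ⟨pa_T k hk u hu, pb_T k hk v hv, pc_T k hk _ h1, h1⟩
  have cube_a' : ∀ u : F, u ≠ 0 → ∃ k ∈ E.T, (∀ x, k * E.xa x * k⁻¹ = E.xa (u ^ 3 * x)) ∧
      (∀ x, k * E.xb x * k⁻¹ = E.xb (1 * x)) := by
    intro u hu
    obtain ⟨k, hk, h1, h2⟩ := hF.cube_a u hu
    exact ⟨k, hk, h1, fun x => by rw [one_mul, h2]⟩
  have cube_b' : ∀ u : F, u ≠ 0 → ∃ k ∈ E.T, (∀ x, k * E.xa x * k⁻¹ = E.xa (1 * x)) ∧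
      (∀ x, k * E.xb x * k⁻¹ = E.xb (u ^ 3 * x)) := by
    intro u hu
    obtain ⟨k, hk, h1, h2⟩ := hF.cube_b u hu
    exact ⟨k, hk, fun x => by rw [one_mul, h1], h2⟩
  have Zc : ∀ a b c d : F, pc a * E.xc b * (pc c * E.xc d) = pc (a + c) * E.xc (b + d) := by
    intro a b c d
    rw [pc_add, E.xc_add]
    have : E.xc b * pc c = pc c * E.xc b := C.Z_comm (C.memZ b) (pc_mem c)
    calc pc a * E.xc b * (pc c * E.xc d) = pc a * (E.xc b * pc c) * E.xc d := by group
      _ = _ := by rw [this]; group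
  have xc_of : ∀ a b c, pc a * E.xc b = pc a * E.xc c → b = c := fun a b c hh =>
    E.xc_inj (mul_left_cancel hh)
  -- linearity of `f1`
  have f1lin : ∀ s r, f1 s r = f1 1 1 * (s * r) := by
    apply lin
    · intro s s' r
      have e1 := hf1 (s + s') r
      have e2 := C.cm_mul_l (pa_mem s) (pa_mem s') (C.memB r)
      rw [pa_add] at e1
      simp only [Env.base_xb] at e2
      rw [e1, hf1, hf1, Zc, ← add_mul] at e2
      exact xc_of _ _ _ e2
    · intro s r r'
      have e1 := hf1 s (r + r')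
      have e2 := C.cm_mul_r (pa_mem s) (C.memB r) (C.memB r')
      simp only [Env.base_xb] at e2
      rw [E.xb_add] at e1
      rw [e1, hf1, hf1, Zc, ← mul_add] at e2
      exact xc_of _ _ _ e2
    · intro u s r hu
      obtain ⟨k, hk, h1, h2⟩ := cube_a' u hu
      obtain ⟨g1, g2, g3, g4⟩ := conj_cm k hk _ _ h1 h2
      have e1 := cm_conj k (pa s) (E.xb r)
      rw [g1, h2, hf1, conj_mul_distrib, g3, g4, one_mul, hf1] at e1
      have e3 : u ^ 3 * 1 * (s * r) = u ^ 3 * s * r := by ring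
      rw [e3] at e1
      have e4 := xc_of _ _ _ e1
      rw [← e4]; ring
    · intro u s r hu
      obtain ⟨k, hk, h1, h2⟩ := cube_b' u hu
      obtain ⟨g1, g2, g3, g4⟩ := conj_cm k hk _ _ h1 h2
      have e1 := cm_conj k (pa s) (E.xb r)
      rw [g1, h2, hf1, conj_mul_distrib, g3, g4, hf1] at e1
      have e3 : 1 * u ^ 3 * (s * r) = 1 * s * (u ^ 3 * r) := by ring
      rw [e3] at e1
      have e4 := xc_of _ _ _ e1
      simp only [one_mul] at e4
      rw [← e4]
  have f2lin : ∀ s r, f2 s r = f2 1 1 * (s * r) := by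
    apply lin
    · intro s s' r
      have e1 := hf2 (s + s') r
      have e2 := C.cm_mul_l (C.memA s) (C.memA s') (pb_mem r)
      simp only [Env.base_xa] at e2
      rw [E.xa_add] at e1
      rw [e1, hf2, hf2, Zc, ← add_mul] at e2
      exact xc_of _ _ _ e2
    · intro s r r'
      have e1 := hf2 s (r + r')
      have e2 := C.cm_mul_r (C.memA s) (pb_mem r) (pb_mem r')
      rw [pb_add] at e1
      simp only [Env.base_xa] at e2
      rw [e1, hf2, hf2, Zc, ← mul_add] at e2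
      exact xc_of _ _ _ e2
    · intro u s r hu
      obtain ⟨k, hk, h1, h2⟩ := cube_a' u hu
      obtain ⟨g1, g2, g3, g4⟩ := conj_cm k hk _ _ h1 h2
      have e1 := cm_conj k (E.xa s) (pb r)
      rw [g2, h1, hf2, conj_mul_distrib, g3, g4, hf2] at e1
      have e3 : u ^ 3 * 1 * (s * r) = u ^ 3 * s * (1 * r) := by ring
      rw [e3] at e1
      have e4 := xc_of _ _ _ e1
      simp only [one_mul, mul_one] at e4
      rw [← e4]
    · intro u s r hu
      obtain ⟨k, hk, h1, h2⟩ := cube_b' u hu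
      obtain ⟨g1, g2, g3, g4⟩ := conj_cm k hk _ _ h1 h2
      have e1 := cm_conj k (E.xa s) (pb r)
      rw [g2, h1, hf2, conj_mul_distrib, g3, g4, hf2] at e1
      have e3 : 1 * u ^ 3 * (s * r) = 1 * s * (u ^ 3 * r) := by ring
      rw [e3] at e1
      have e4 := xc_of _ _ _ e1
      simp only [one_mul] at e4
      rw [← e4]
  -- new sections
  set c1 := f1 1 1 with hc1
  set c2 := f2 1 1 with hc2
  let qa : F → G := fun s => pa s * E.xa (c1 * s)
  let qb : F → G := fun s => pb s * E.xb (c2 * s)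
  have qa_mem : ∀ s, qa s ∈ A := fun s => A.mul_mem (pa_mem s) (C.memA _)
  have qb_mem : ∀ s, qb s ∈ B := fun s => B.mul_mem (pb_mem s) (C.memB _)
  have qa_add : ∀ s r, qa (s + r) = qa s * qa r := by
    intro s r
    simp only [qa]
    rw [pa_add, mul_add, E.xa_add]
    have : pa r * E.xa (c1 * s) = E.xa (c1 * s) * pa r := C.A_comm (pa_mem r) (C.memA _)
    calc pa s * pa r * (E.xa (c1 * s) * E.xa (c1 * r))
        = pa s * (pa r * E.xa (c1 * s)) * E.xa (c1 * r) := by group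
      _ = _ := by rw [this]; group
  have qb_add : ∀ s r, qb (s + r) = qb s * qb r := by
    intro s r
    simp only [qb]
    rw [pb_add, mul_add, E.xb_add]
    have : pb r * E.xb (c2 * s) = E.xb (c2 * s) * pb r := C.B_comm (pb_mem r) (C.memB _)
    calc pb s * pb r * (E.xb (c2 * s) * E.xb (c2 * r))
        = pb s * (pb r * E.xb (c2 * s)) * E.xb (c2 * r) := by group
      _ = _ := by rw [this]; group
  have qa_t : ∀ s, qa s * E.t * (qa s)⁻¹ = E.xa s * E.t := by
    intro s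
    have : qa s * E.t * (qa s)⁻¹ = pa s * (E.xa (c1 * s) * E.t * (E.xa (c1 * s))⁻¹) * (pa s)⁻¹ := by
      simp only [qa]; group
    rw [this, conj_of_comm (E.t_a _).symm, pa_t]
  have qb_t : ∀ s, qb s * E.t * (qb s)⁻¹ = E.xb s * E.t := by
    intro s
    have : qb s * E.t * (qb s)⁻¹ = pb s * (E.xb (c2 * s) * E.t * (E.xb (c2 * s))⁻¹) * (pb s)⁻¹ := by
      simp only [qb]; group
    rw [this, conj_of_comm (E.t_b _).symm, pb_t]
  have cm_xx : ∀ s r, cm (E.xa s) (E.xb r) = E.xc (s * r) := by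
    intro s r
    unfold cm
    rw [E.a_b]; group
  have qa_xb : ∀ s r, cm (qa s) (E.xb r) = pc (s * r) := by
    intro s r
    have e1 := C.cm_mul_l (pa_mem s) (C.memA (c1 * s)) (C.memB r)
    simp only [Env.base_xa, Env.base_xb] at e1
    have e2 : pc (s * r) * E.xc (c1 * (s * r)) * E.xc (c1 * s * r) = pc (s * r) := by
      rw [mul_assoc, ← E.xc_add]
      have : c1 * (s * r) + c1 * s * r = c1 * (s * r) + c1 * (s * r) := by ring
      rw [this, CharTwo.add_self_eq_zero, E.xc_zero, mul_one]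
    change cm (pa s * E.xa (c1 * s)) (E.xb r) = _
    rw [e1, hf1, f1lin, cm_xx, e2]
  have xa_qb : ∀ s r, cm (E.xa s) (qb r) = pc (s * r) := by
    intro s r
    have e1 := C.cm_mul_r (C.memA s) (pb_mem r) (C.memB (c2 * r))
    simp only [Env.base_xa, Env.base_xb] at e1
    have e2 : pc (s * r) * E.xc (c2 * (s * r)) * E.xc (s * (c2 * r)) = pc (s * r) := by
      rw [mul_assoc, ← E.xc_add]
      have : c2 * (s * r) + s * (c2 * r) = c2 * (s * r) + c2 * (s * r) := by ring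
      rw [this, CharTwo.add_self_eq_zero, E.xc_zero, mul_one]
    change cm (E.xa s) (pb r * E.xb (c2 * r)) = _
    rw [e1, hf2, f2lin, cm_xx, e2]
  have hex3 : ∀ s r, ∃ c, cm (qa s) (qb r) = pc (s * r) * E.xc c := by
    intro s r
    refine C.Z_eq (C.cm_mem (qa_mem s) (qb_mem r)) (pc_mem _) ?_
    have hta : E.t * qa s * E.t⁻¹ = qa s * E.xa s :=
      C.t_conj_of (E.xa_sq s) (C.A_comm (C.memA s) (qa_mem s)) (qa_t s)
    have htb : E.t * qb r * E.t⁻¹ = qb r * E.xb r :=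
      C.t_conj_of (E.xb_sq r) (C.B_comm (C.memB r) (qb_mem r)) (qb_t r)
    have e1 := cm_conj E.t (qa s) (qb r)
    rw [hta, htb] at e1
    have e2 := C.cm_mul_l (qa_mem s) (C.memA s) (B.mul_mem (qb_mem r) (C.memB r))
    have e3 := C.cm_mul_r (qa_mem s) (qb_mem r) (C.memB r)
    have e4 := C.cm_mul_r (C.memA s) (qb_mem r) (C.memB r)
    simp only [Env.base_xa, Env.base_xb] at e2 e3 e4
    rw [e2, e3, e4, qa_xb, xa_qb, cm_xx] at e1
    set z := cm (qa s) (qb r) with hz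
    have hzm : z ∈ Z := C.cm_mem (qa_mem s) (qb_mem r)
    have e5 : E.t * z * E.t⁻¹ = z * E.xc (s * r) := by
      rw [e1]
      have : z * pc (s * r) * (pc (s * r) * E.xc (s * r))
          = z * (pc (s * r) * pc (s * r)) * E.xc (s * r) := by group
      rw [this, C.Z_sq _ (pc_mem _), mul_one]
    change z * E.t * z⁻¹ = pc (s * r) * E.t * (pc (s * r))⁻¹
    rw [pc_t]
    have e6 : E.t * z = z * E.xc (s * r) * E.t := by rw [← e5, inv_mul_cancel_right]
    have hzc : z * E.xc (s * r) = E.xc (s * r) * z := C.Z_comm hzm (C.memZ _)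
    rw [mul_inv_eq_iff_eq_mul, mul_assoc, e6, ← mul_assoc, ← mul_assoc, ← hzc, mul_assoc z,
      E.xc_sq, mul_one]
  choose f3 hf3 using hex3
  have qa_T : ∀ k ∈ E.T, ∀ u, (∀ x, k * E.xa x * k⁻¹ = E.xa (u * x)) → ∀ s,
      k * qa s * k⁻¹ = qa (u * s) := by
    intro k hk u hu s
    simp only [qa]
    rw [conj_mul_distrib, pa_T k hk u hu, hu]
    congr 2
    ring
  have qb_T : ∀ k ∈ E.T, ∀ u, (∀ x, k * E.xb x * k⁻¹ = E.xb (u * x)) → ∀ s,
      k * qb s * k⁻¹ = qb (u * s) := by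
    intro k hk u hu s
    simp only [qb]
    rw [conj_mul_distrib, pb_T k hk u hu, hu]
    congr 2
    ring
  have f3lin : ∀ s r, f3 s r = f3 1 1 * (s * r) := by
    apply lin
    · intro s s' r
      have e1 := hf3 (s + s') r
      have e2 := C.cm_mul_l (qa_mem s) (qa_mem s') (qb_mem r)
      rw [qa_add] at e1
      rw [e1, hf3, hf3, Zc, ← add_mul] at e2
      exact xc_of _ _ _ e2
    · intro s r r'
      have e1 := hf3 s (r + r')
      have e2 := C.cm_mul_r (qa_mem s) (qb_mem r) (qb_mem r')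
      rw [qb_add] at e1
      rw [e1, hf3, hf3, Zc, ← mul_add] at e2
      exact xc_of _ _ _ e2
    · intro u s r hu
      obtain ⟨k, hk, h1, h2⟩ := cube_a' u hu
      obtain ⟨-, -, g3, g4⟩ := conj_cm k hk _ _ h1 h2
      have e1 := cm_conj k (qa s) (qb r)
      rw [qa_T k hk _ h1, qb_T k hk _ h2, hf3, conj_mul_distrib, g3, g4, one_mul, hf3] at e1
      have e3 : u ^ 3 * 1 * (s * r) = u ^ 3 * s * r := by ring
      rw [e3] at e1
      have e4 := xc_of _ _ _ e1
      rw [← e4]; ring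
    · intro u s r hu
      obtain ⟨k, hk, h1, h2⟩ := cube_b' u hu
      obtain ⟨-, -, g3, g4⟩ := conj_cm k hk _ _ h1 h2
      have e1 := cm_conj k (qa s) (qb r)
      rw [qa_T k hk _ h1, qb_T k hk _ h2, hf3, conj_mul_distrib, g3, g4, hf3] at e1
      have e3 : 1 * u ^ 3 * (s * r) = 1 * s * (u ^ 3 * r) := by ring
      rw [e3] at e1
      have e4 := xc_of _ _ _ e1
      simp only [one_mul] at e4
      rw [← e4]
  exact ⟨{
    pa := qa
    pb := qb
    pc := pc
    g := f3 1 1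
    pa_mem := qa_mem
    pb_mem := qb_mem
    pc_mem := pc_mem
    pa_add := qa_add
    pb_add := qb_add
    pc_add := pc_add
    pa_t := qa_t
    pb_t := qb_t
    pc_t := pc_t
    pa_xb := qa_xb
    xa_pb := xa_qb
    pa_pb := fun s r => by rw [hf3, f3lin]; rfl }⟩

end Cfsg.Agent.StdRank2.L3G
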