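import Cfsg.Agent.StdRank2.L3G.Root

/-!
# Growth in type `L₃(q)`, `q ≥ 8` even: from `Seed` to `Grown`
-/

set_option autoImplicit false
set_option linter.unusedSectionVars false

namespace Cfsg.Agent.StdRank2.L3G

open Subgroup

variable {F : Type*} [Field F] [CharP F 2] {G : Type*} [Group G]

theorem conj_mul_distrib (g x y : G) : g * (x * y) * g⁻¹ = (g * x * g⁻¹) * (g * y * g⁻¹) := by
  group

theorem conj_mul_distrib' (g x y : G) : g⁻¹ * (x * y) * g = (g⁻¹ * x * g) * (g⁻¹ * y * g) := by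
  group

theorem conj_of_comm' {g x : G} (h : g * x = x * g) : g⁻¹ * x * g = x := by
  rw [mul_assoc, ← h, inv_mul_cancel_left]

theorem comm_inv {g x : G} (h : g * x = x * g) : g⁻¹ * x = x * g⁻¹ := by
  rw [inv_mul_eq_iff_eq_mul, ← mul_assoc, h, mul_assoc, mul_inv_cancel, mul_one]

/-- commutators -/
def cm (x y : G) : G := x * y * x⁻¹ * y⁻¹

theorem conj_eq_cm (x y : G) : x * y * x⁻¹ = cm x y * y := by unfold cm; group

theorem cm_conj (g x y : G) : g * cm x y * g⁻¹ = cm (g * x * g⁻¹) (g * y * g⁻¹) := by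
  unfold cm; group

theorem cm_mul_left (a b y : G) : cm (a * b) y = (a * cm b y * a⁻¹) * cm a y := by
  unfold cm; group

theorem cm_mul_right (x a b : G) : cm x (a * b) = cm x a * (a * cm x b * a⁻¹) := by
  unfold cm; group

/-- `[x, y]` in terms of `x = g b g⁻¹ b⁻¹`, `g` commuting with `y`. -/
theorem cm_left_eq {g a b y : G} (hg : g * y = y * g) (ha : a = g * b * g⁻¹ * b⁻¹) :
    cm a y = (a * (cm b y)⁻¹ * a⁻¹) * (g * cm b y * g⁻¹) := by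
  have h1 : g * b * g⁻¹ = a * b := by rw [ha]; group
  have h2 : g * cm b y * g⁻¹ = (a * cm b y * a⁻¹) * cm a y := by
    rw [cm_conj, conj_of_comm hg, h1, cm_mul_left]
  rw [h2]
  group

theorem cm_right_eq {g a b x : G} (hg : g * x = x * g) (ha : a = g * b * g⁻¹ * b⁻¹) :
    cm x a = (g * cm x b * g⁻¹) * (a * (cm x b)⁻¹ * a⁻¹) := by
  have h1 : g * b * g⁻¹ = a * b := by rw [ha]; group
  have h2 : g * cm x b * g⁻¹ = cm x a * (a * cm x b * a⁻¹) := by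
    rw [cm_conj, conj_of_comm hg, h1, cm_mul_right]
  rw [h2]
  group

namespace Env

variable (E : Env F G)

/-- A torus element with weights `(mu, mu⁻¹)`. -/
theorem exists_T_zero : ∃ g ∈ E.T, (∀ x, g * E.xa x * g⁻¹ = E.xa (E.mu * x)) ∧
    (∀ x, g * E.xc x * g⁻¹ = E.xc x) := by
  obtain ⟨g1, h1, a1, b1⟩ := E.T_mu_one
  obtain ⟨g2, h2, a2, b2⟩ := E.T_one_mu
  have hc1 := E.act_c a1 (v := 1) (by simpa using b1)
  have hc2 := E.act_c (u := 1) (by simpa using a2) b2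
  refine ⟨g2⁻¹ * g1, E.T.mul_mem (E.T.inv_mem h2) h1, ?_, ?_⟩
  · intro x
    have e1 : g2⁻¹ * g1 * E.xa x * (g2⁻¹ * g1)⁻¹ = g2⁻¹ * (g1 * E.xa x * g1⁻¹) * g2 := by group
    rw [e1, a1]
    exact conj_of_comm' (comm_of_conj (a2 _))
  · intro x
    have e1 : g2⁻¹ * g1 * E.xc x * (g2⁻¹ * g1)⁻¹ = g2⁻¹ * (g1 * E.xc x * g1⁻¹) * g2 := by group
    have e2 : g1 * E.xc x * g1⁻¹ = g2 * E.xc x * g2⁻¹ := by
      rw [hc1, hc2]
      congr 1
      ring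
    rw [e1, e2]
    group

theorem exists_T_one : ∃ g ∈ E.T, (∀ x, g * E.xa x * g⁻¹ = E.xa (E.mu * x)) ∧
    (∀ x, g * E.xb x = E.xb x * g) ∧ (∀ x, g * E.xc x * g⁻¹ = E.xc (E.mu * x)) := by
  obtain ⟨g1, h1, a1, b1⟩ := E.T_mu_one
  have hc1 := E.act_c a1 (v := 1) (by simpa using b1)
  refine ⟨g1, h1, a1, fun x => comm_of_conj (b1 x), fun x => ?_⟩
  rw [hc1, mul_one]

theorem exists_T_two : ∃ g ∈ E.T, (∀ x, g * E.xa x = E.xa x * g) ∧
    (∀ x, g * E.xb x * g⁻¹ = E.xb (E.mu * x)) ∧ (∀ x, g * E.xc x * g⁻¹ = E.xc (E.mu * x)) := by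
  obtain ⟨g1, h1, a1, b1⟩ := E.T_one_mu
  have hc1 := E.act_c (u := 1) (by simpa using a1) b1
  refine ⟨g1, h1, fun x => comm_of_conj (a1 x), b1, fun x => ?_⟩
  rw [hc1, one_mul]

/-- `y` moves `t` by `xc s`, `w` by `xa r`, both centralise `X_a X_c`: the commutator fixes `t`. -/
theorem cm_comm_t {y w : G} {s r : F} (hy : y⁻¹ * E.t * y = E.xc s * E.t)
    (hw : w⁻¹ * E.t * w = E.xa r * E.t) (hy' : y * E.t * y⁻¹ = E.xc s * E.t)
    (hw' : w * E.t * w⁻¹ = E.xa r * E.t) (ya : ∀ x, y * E.xa x = E.xa x * y)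
    (yc : ∀ x, y * E.xc x = E.xc x * y) (wa : ∀ x, w * E.xa x = E.xa x * w)
    (wc : ∀ x, w * E.xc x = E.xc x * w) : cm y w * E.t = E.t * cm y w := by
  apply comm_of_conj
  have e1 : cm y w * E.t * (cm y w)⁻¹
      = y * (w * (y⁻¹ * (w⁻¹ * E.t * w) * y) * w⁻¹) * y⁻¹ := by unfold cm; group
  have e2 : E.xa r * (E.xc s * (E.xa r * E.t)) = E.xc s * E.t := by
    rw [← mul_assoc (E.xc s), E.c_a, mul_assoc (E.xa r), ← mul_assoc (E.xa r) (E.xa r), E.xa_sq,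
      one_mul]
  rw [e1, hw, conj_mul_distrib', conj_of_comm' (ya r), hy, conj_mul_distrib w,
    conj_of_comm (wa r), conj_mul_distrib w, conj_of_comm (wc s), hw', e2, conj_mul_distrib,
    conj_of_comm (yc s), hy', ← mul_assoc, E.xc_sq, one_mul]

end Env

namespace Seed

variable {E : Env F G} {Z : Subgroup G} (S : Seed E Z)
include S

theorem c_c {g : G} (hg : g ∈ Z) (x : F) : g * E.xc x = E.xc x * g :=
  S.comm g hg _ (S.mem x)

/-- The grown group over `X_a`. -/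
theorem rootA : PreRoot E E.xa (cj E.na Z) := S.toPreRoot.conj E.t_na E.na_T E.na_c

theorem rootB : PreRoot E E.xb (cj E.nb Z) := S.toPreRoot.conj E.t_nb E.nb_T E.nb_c

theorem A_c {g : G} (hg : g ∈ cj E.na Z) (x : F) : g * E.xc x = E.xc x * g := by
  rw [mem_cj] at hg
  have h := S.c_a _ hg x
  rw [← E.na_a x]
  have e1 : g * (E.na * E.xa x * E.na⁻¹) = E.na * (E.na⁻¹ * g * E.na * E.xa x) * E.na⁻¹ := by group
  rw [e1, h]
  group

theorem A_a {g : G} (hg : g ∈ cj E.na Z) (x : F) : g * E.xa x = E.xa x * g :=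
  S.rootA.comm g hg _ (S.rootA.mem x)

theorem B_c {g : G} (hg : g ∈ cj E.nb Z) (x : F) : g * E.xc x = E.xc x * g := by
  rw [mem_cj] at hg
  have h := S.c_b _ hg x
  rw [← E.nb_b x]
  have e1 : g * (E.nb * E.xb x * E.nb⁻¹) = E.nb * (E.nb⁻¹ * g * E.nb * E.xb x) * E.nb⁻¹ := by group
  rw [e1, h]
  group

theorem B_b {g : G} (hg : g ∈ cj E.nb Z) (x : F) : g * E.xb x = E.xb x * g :=
  S.rootB.comm g hg _ (S.rootB.mem x)

/-! ### (1) `[Z^, A^] = 1` -/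

theorem cm_Z_A {y w : G} (hy : y ∈ Z) (hw : w ∈ cj E.na Z) :
    ∃ x z, cm y w = E.xa x * E.xc z ∨ cm y w = E.t * (E.xa x * E.xc z) := by
  obtain ⟨s, hs⟩ := S.conj_t y hy
  obtain ⟨r, hr⟩ := S.rootA.conj_t w hw
  have hs' := S.toPreRoot.inv_conj E.xc_sq hy hs
  have hr' := S.rootA.inv_conj E.xa_sq hw hr
  have h1 := E.cm_comm_t hs' hr' hs hr (S.c_a y hy) (S.c_c hy) (S.A_a hw) (S.A_c hw)
  refine E.cent_one _ h1 ?_ ?_
  · intro x
    have e1 := S.c_a y hy x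
    have e2 := S.A_a hw x
    unfold cm
    calc y * w * y⁻¹ * w⁻¹ * E.xa x = y * w * y⁻¹ * (w⁻¹ * E.xa x) := by group
      _ = y * w * (y⁻¹ * E.xa x) * w⁻¹ := by rw [comm_inv e2]; group
      _ = y * (w * E.xa x) * y⁻¹ * w⁻¹ := by rw [comm_inv e1]; group
      _ = (y * E.xa x) * w * y⁻¹ * w⁻¹ := by rw [e2]; group
      _ = _ := by rw [e1]; group
  · intro x
    have e1 := S.c_c hy x
    have e2 := S.A_c hw x
    unfold cm
    calc y * w * y⁻¹ * w⁻¹ * E.xc x = y * w * y⁻¹ * (w⁻¹ * E.xc x) := by group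
      _ = y * w * (y⁻¹ * E.xc x) * w⁻¹ := by rw [comm_inv e2]; group
      _ = y * (w * E.xc x) * y⁻¹ * w⁻¹ := by rw [comm_inv e1]; group
      _ = (y * E.xc x) * w * y⁻¹ * w⁻¹ := by rw [e2]; group
      _ = _ := by rw [e1]; group

theorem cm_Z_A' {y w : G} (hy : y ∈ Z) (hw : w ∈ cj E.na Z) : ∃ z, cm y w = E.xc z := by
  obtain ⟨g, hg, ga, -, gc⟩ := E.exists_T_two
  obtain ⟨b, hb, hyb⟩ := S.toPreRoot.exists_comm E.xc_add E.t_c hg E.mu_ne' gc hy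
  have hgw : g * w = w * g := S.rootA.comm_of_T E.xa_sq hg ga hw
  have h1 := cm_left_eq hgw hyb
  obtain ⟨s, hs⟩ := S.conj_t y hy
  have h2 : ∃ z', g * cm b w * g⁻¹ = cm b w * E.xc z' := by
    obtain ⟨x, z, h | h⟩ := S.cm_Z_A hb hw
    · refine ⟨z + E.mu * z, ?_⟩
      rw [h, conj_mul_distrib, conj_of_comm (ga x), gc, E.xc_add, mul_assoc, ← mul_assoc (E.xc z),
        E.xc_sq, one_mul]
    · refine ⟨z + E.mu * z, ?_⟩
      rw [h, conj_mul_distrib, conj_mul_distrib, conj_of_comm (ga x), gc, E.xc_add,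
        conj_of_comm (E.T_t g hg).symm, mul_assoc, mul_assoc, ← mul_assoc (E.xc z),
        E.xc_sq, one_mul]
  have h3 : ∃ z', y * cm b w * y⁻¹ = cm b w * E.xc z' := by
    obtain ⟨x, z, h | h⟩ := S.cm_Z_A hb hw
    · refine ⟨0, ?_⟩
      rw [h, conj_mul_distrib, conj_of_comm (S.c_a y hy x), conj_of_comm (S.c_c hy z), E.xc_zero,
        mul_one]
    · refine ⟨s, ?_⟩
      rw [h, conj_mul_distrib, conj_mul_distrib, conj_of_comm (S.c_a y hy x),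
        conj_of_comm (S.c_c hy z), hs]
      have e1 : E.xc s * E.t = E.t * E.xc s := (E.t_c s).symm
      have e2 : E.xc s * (E.xa x * E.xc z) = E.xa x * E.xc z * E.xc s := by
        rw [← mul_assoc, E.c_a, mul_assoc, ← E.xc_add, add_comm, E.xc_add, mul_assoc]
      rw [e1, mul_assoc, e2, ← mul_assoc]
  obtain ⟨z2, h2⟩ := h2
  obtain ⟨z3, h3⟩ := h3
  have h4 : y * (cm b w)⁻¹ * y⁻¹ = E.xc z3 * (cm b w)⁻¹ := by
    have : y * (cm b w)⁻¹ * y⁻¹ = (y * cm b w * y⁻¹)⁻¹ := by group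
    rw [this, h3, mul_inv_rev, E.xc_inv]
  refine ⟨z3 + z2, ?_⟩
  rw [h1, h4, h2, E.xc_add]
  group

theorem Z_A {y w : G} (hy : y ∈ Z) (hw : w ∈ cj E.na Z) : y * w = w * y := by
  obtain ⟨g, hg, ga, gc⟩ := E.exists_T_zero
  obtain ⟨b, hb, hwb⟩ := S.rootA.exists_comm E.xa_add E.t_a hg E.mu_ne' ga hw
  have hgy : g * y = y * g :=
    S.toPreRoot.comm_of_T E.xc_sq hg (fun c => comm_of_conj (gc c)) hy
  have h1 := cm_right_eq hgy hwb
  obtain ⟨z, hz⟩ := S.cm_Z_A' hy hb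
  rw [hz, gc, E.xc_inv, conj_of_comm (S.A_c hw z), E.xc_sq] at h1
  have h2 : y * w = cm y w * (w * y) := by unfold cm; group
  rw [h2, h1, one_mul]

theorem swap : Seed E.swap Z where
  mem := S.mem
  comm := S.comm
  conj_t := S.conj_t
  onto := S.onto
  cent := S.cent
  conj_T := S.conj_T
  c_a := S.c_b
  c_b := S.c_a

theorem Z_B {y w : G} (hy : y ∈ Z) (hw : w ∈ cj E.nb Z) : y * w = w * y := S.swap.Z_A hy hw

/-! ### (2) `[A^, X_b] ≤ Z^` -/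

theorem cm_b_A {y : G} {r s : F} (hy : y ∈ cj E.na Z) (hs : y * E.t * y⁻¹ = E.xa s * E.t) :
    cm (E.xb r) y * E.t * (cm (E.xb r) y)⁻¹ = E.xc (s * r) * E.t ∧
    (∀ x, cm (E.xb r) y * E.xa x = E.xa x * cm (E.xb r) y) ∧
    (∀ x, cm (E.xb r) y * E.xc x = E.xc x * cm (E.xb r) y) := by
  have hs' := S.rootA.inv_conj E.xa_sq hy hs
  have hba : ∀ x, E.xb r * E.xa x * E.xb r = E.xc (x * r) * E.xa x := by
    intro x
    have h1 := E.swap.a_b r x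
    simp only [Env.swap_xa, Env.swap_xb, Env.swap_xc] at h1
    rw [h1, mul_comm r x, mul_assoc, mul_assoc, E.xb_sq, mul_one]
  have hexp : ∀ g, cm (E.xb r) y * g * (cm (E.xb r) y)⁻¹
      = E.xb r * (y * (E.xb r * (y⁻¹ * g * y) * E.xb r) * y⁻¹) * E.xb r := by
    intro g
    unfold cm
    rw [E.xb_inv]
    have : (E.xb r * y * E.xb r * y⁻¹)⁻¹ = y * (E.xb r)⁻¹ * y⁻¹ * (E.xb r)⁻¹ := by group
    rw [this, E.xb_inv]
    group
  refine ⟨?_, ?_, ?_⟩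
  · rw [hexp, hs']
    have e1 : E.xb r * (E.xa s * E.t) * E.xb r = E.xc (s * r) * (E.xa s * E.t) := by
      have : E.xb r * (E.xa s * E.t) * E.xb r = (E.xb r * E.xa s * E.xb r) * E.t := by
        rw [mul_assoc, mul_assoc (E.xa s), E.t_b]; group
      rw [this, hba, mul_assoc]
    rw [e1, conj_mul_distrib, conj_of_comm (S.A_c hy _), conj_mul_distrib, conj_of_comm (S.A_a hy _),
      hs, ← mul_assoc (E.xa s), E.xa_sq, one_mul]
    calc E.xb r * (E.xc (s * r) * E.t) * E.xb r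
        = (E.xb r * E.xc (s * r)) * (E.t * E.xb r) := by group
      _ = E.xc (s * r) * E.t := by
        rw [← E.c_b, E.t_b, mul_assoc, ← mul_assoc (E.xb r), E.xb_sq, one_mul]
  · intro x
    apply comm_of_conj
    rw [hexp, conj_of_comm' (S.A_a hy x), hba, conj_mul_distrib, conj_of_comm (S.A_c hy _),
      conj_of_comm (S.A_a hy _)]
    have : E.xb r * (E.xc (x * r) * E.xa x) * E.xb r
        = E.xc (x * r) * (E.xb r * E.xa x * E.xb r) := by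
      rw [← mul_assoc, ← E.c_b]; group
    rw [this, hba, ← mul_assoc, E.xc_sq, one_mul]
  · intro x
    apply comm_of_conj
    have e1 : E.xb r * E.xc x * E.xb r = E.xc x := by
      rw [← E.c_b, mul_assoc, E.xb_sq, mul_one]
    rw [hexp, conj_of_comm' (S.A_c hy x), e1, conj_of_comm (S.A_c hy x), e1]

/-- an element of `⟨t⟩ X_a Z^`. -/
theorem cm_b_A' {y : G} {r : F} (hy : y ∈ cj E.na Z) :
    ∃ z ∈ Z, ∃ x, cm (E.xb r) y = z * E.xa x ∨ cm (E.xb r) y = z * (E.t * E.xa x) := by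
  obtain ⟨s, hs⟩ := S.rootA.conj_t y hy
  obtain ⟨h1, h2, h3⟩ := S.cm_b_A (r := r) hy hs
  obtain ⟨z, hz, hzt⟩ := S.onto (s * r)
  have hzt' := S.toPreRoot.inv_conj E.xc_sq hz hzt
  obtain ⟨x, z', h⟩ := E.cent_one (z⁻¹ * cm (E.xb r) y) (by
      apply comm_of_conj
      have e1 : z⁻¹ * cm (E.xb r) y * E.t * (z⁻¹ * cm (E.xb r) y)⁻¹
          = z⁻¹ * (cm (E.xb r) y * E.t * (cm (E.xb r) y)⁻¹) * z := by group
      rw [e1, h1, conj_mul_distrib', conj_of_comm' (S.c_c hz _), hzt', ← mul_assoc, E.xc_sq,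
        one_mul]) (fun x => by
      rw [mul_assoc, h2, ← mul_assoc, comm_inv (S.c_a z hz x), mul_assoc]) (fun x => by
      rw [mul_assoc, h3, ← mul_assoc, comm_inv (S.c_c hz x), mul_assoc])
  have hzz : z * E.xc z' ∈ Z := Z.mul_mem hz (S.mem z')
  refine ⟨z * E.xc z', hzz, x, ?_⟩
  rcases h with h | h
  · left
    rw [mul_assoc, E.c_a, ← h]
    group
  · right
    have : cm (E.xb r) y = z * (E.t * (E.xa x * E.xc z')) := by rw [← h]; group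
    rw [this, ← E.c_a, ← mul_assoc E.t, E.t_c]
    group

theorem cm_b_A_mem {y : G} (r : F) (hy : y ∈ cj E.na Z) : cm (E.xb r) y ∈ Z := by
  obtain ⟨g, hg, ga, gb, gc⟩ := E.exists_T_two
  have hmu := sub_ne E.mu_ne'
  have hxb : E.xb r = g * E.xb (r / (E.mu + 1)) * g⁻¹ * (E.xb (r / (E.mu + 1)))⁻¹ := by
    rw [gb, E.xb_inv, ← E.xb_add]
    congr 1
    field_simp
  have hgy : g * y = y * g := S.rootA.comm_of_T E.xa_sq hg ga hy
  rw [cm_left_eq hgy hxb]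
  obtain ⟨z, hz, x, h⟩ := S.cm_b_A' (r := r / (E.mu + 1)) hy
  -- `c = z * e`, `e` normalises `Z`
  have key : ∀ e : G, (∃ a, E.xb r * e⁻¹ * (E.xb r)⁻¹ = e⁻¹ * E.xc a) → g * e * g⁻¹ = e →
      (∀ w ∈ Z, e⁻¹ * w * e ∈ Z) → cm (E.xb (r / (E.mu + 1))) y = z * e →
      E.xb r * (cm (E.xb (r / (E.mu + 1))) y)⁻¹ * (E.xb r)⁻¹
        * (g * cm (E.xb (r / (E.mu + 1))) y * g⁻¹) ∈ Z := by
    rintro e ⟨a, ha⟩ he2 he3 he
    rw [he, mul_inv_rev, conj_mul_distrib, ha, conj_mul_distrib g, he2,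
      conj_of_comm (comm_inv (S.c_b z hz r)).symm]
    have e1 : e⁻¹ * E.xc a * z⁻¹ * (g * z * g⁻¹ * e)
        = e⁻¹ * (E.xc a * z⁻¹ * (g * z * g⁻¹)) * e := by group
    rw [e1]
    exact he3 _ (Z.mul_mem (Z.mul_mem (S.mem a) (Z.inv_mem hz)) (S.conj_T g hg z hz))
  have hxa : E.xb r * E.xa x * (E.xb r)⁻¹ = E.xa x * E.xc (x * r) := by
    have h1 := E.swap.a_b r x
    simp only [Env.swap_xa, Env.swap_xb, Env.swap_xc] at h1
    rw [h1, mul_comm r x, mul_assoc, mul_assoc, mul_inv_cancel, mul_one, E.c_a]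
  rcases h with h | h
  · refine key (E.xa x) ⟨x * r, ?_⟩ (conj_of_comm (ga x)) ?_ h
    · rw [E.xa_inv, hxa]
    · intro w hw
      rw [conj_of_comm' (S.c_a w hw x).symm]
      exact hw
  · refine key (E.t * E.xa x) ⟨x * r, ?_⟩ ?_ ?_ h
    · rw [mul_inv_rev, E.xa_inv, E.t_inv, conj_mul_distrib, hxa, conj_of_comm (E.t_b r).symm,
        mul_assoc, ← E.t_c, mul_assoc]
    · rw [conj_mul_distrib, conj_of_comm (E.T_t g hg).symm, conj_of_comm (ga x)]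
    · intro w hw
      have e1 : (E.t * E.xa x)⁻¹ * w * (E.t * E.xa x)
          = (E.xa x)⁻¹ * (E.t * w * E.t⁻¹) * E.xa x := by
        rw [mul_inv_rev, E.t_inv]; group
      have h2 := S.toPreRoot.t_conj hw
      rw [e1, conj_of_comm' (S.c_a _ h2 x).symm]
      exact h2

/-! ### (3) squares -/

theorem Z_sq {y : G} (hy : y ∈ Z) : y * y = 1 := by
  obtain ⟨r, hr⟩ := S.conj_t y hy
  obtain ⟨w, hw, hwt⟩ := S.rootA.onto 1
  have h1 := S.cm_b_A_mem r hw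
  obtain ⟨h2, -, -⟩ := S.cm_b_A (r := r) hw hwt
  rw [one_mul] at h2
  set z := cm (E.xb r) w with hz
  have h3 : w * E.xb r * w⁻¹ = z⁻¹ * E.xb r := by
    rw [hz]; unfold cm; group
  have h4 : z⁻¹ * z⁻¹ = 1 := by
    have h5 : (w * E.xb r * w⁻¹) * (w * E.xb r * w⁻¹) = 1 := by
      have : (w * E.xb r * w⁻¹) * (w * E.xb r * w⁻¹) = w * (E.xb r * E.xb r) * w⁻¹ := by group
      rw [this, E.xb_sq, mul_one, mul_inv_cancel]
    rw [h3] at h5
    have h6 : z⁻¹ * E.xb r = E.xb r * z⁻¹ := comm_inv (S.c_b z h1 r)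
    calc z⁻¹ * z⁻¹ = z⁻¹ * z⁻¹ * (E.xb r * E.xb r) := by rw [E.xb_sq, mul_one]
      _ = z⁻¹ * (z⁻¹ * E.xb r) * E.xb r := by group
      _ = z⁻¹ * (E.xb r * z⁻¹) * E.xb r := by rw [h6]
      _ = z⁻¹ * E.xb r * (z⁻¹ * E.xb r) := by group
      _ = 1 := h5
  have h5 : z * z = 1 := by
    have : z * z = (z⁻¹ * z⁻¹)⁻¹ := by rw [mul_inv_rev, inv_inv]
    rw [this, h4, inv_one]
  obtain ⟨c, hc⟩ := S.toPreRoot.of_conj_t_eq h1 hy (by rw [h2, hr])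
  rw [hc]
  calc z * E.xc c * (z * E.xc c) = z * (E.xc c * z) * E.xc c := by group
    _ = z * (z * E.xc c) * E.xc c := by rw [S.c_c h1]
    _ = (z * z) * (E.xc c * E.xc c) := by group
    _ = 1 := by rw [h5, E.xc_sq, one_mul]

theorem A_sq {y : G} (hy : y ∈ cj E.na Z) : y * y = 1 := by
  rw [mem_cj] at hy
  have h := S.Z_sq hy
  have : y * y = E.na * ((E.na⁻¹ * y * E.na) * (E.na⁻¹ * y * E.na)) * E.na⁻¹ := by group
  rw [this, h, mul_one, mul_inv_cancel]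

theorem B_sq {y : G} (hy : y ∈ cj E.nb Z) : y * y = 1 := S.swap.A_sq hy

/-! ### (4) `[A^, B^] ≤ Z^` -/

/-- `A^` moves `xb r` inside `Z^ xb r`. -/
theorem conj_A_b {y : G} (hy : y ∈ cj E.na Z) (r : F) : ∃ z ∈ Z, y * E.xb r * y⁻¹ = z * E.xb r := by
  have h1 := S.cm_b_A_mem r hy
  refine ⟨(cm (E.xb r) y)⁻¹, Z.inv_mem h1, ?_⟩
  unfold cm; group

theorem conj_B_a {y : G} (hy : y ∈ cj E.nb Z) (r : F) : ∃ z ∈ Z, y * E.xa r * y⁻¹ = z * E.xa r :=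
  S.swap.conj_A_b hy r

theorem cm_A_B {y w : G} (hy : y ∈ cj E.na Z) (hw : w ∈ cj E.nb Z) :
    ∃ z ∈ Z, ∃ a b, cm y w = z * (E.xa a * E.xb b) ∨ cm y w = z * (E.t * (E.xa a * E.xb b)) := by
  obtain ⟨s, hs⟩ := S.rootA.conj_t y hy
  obtain ⟨r, hr⟩ := S.rootB.conj_t w hw
  have hs' := S.rootA.inv_conj E.xa_sq hy hs
  have hr' := S.rootB.inv_conj E.xb_sq hw hr
  have hexp : ∀ g, cm y w * g * (cm y w)⁻¹ = y * (w * (y⁻¹ * (w⁻¹ * g * w) * y) * w⁻¹) * y⁻¹ := by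
    intro g; unfold cm; group
  have hyi : y⁻¹ ∈ cj E.na Z := (cj E.na Z).inv_mem hy
  have hwi : w⁻¹ ∈ cj E.nb Z := (cj E.nb Z).inv_mem hw
  obtain ⟨z1, hz1, h1⟩ := S.conj_A_b hyi r
  rw [inv_inv] at h1
  obtain ⟨z2, hz2, h2⟩ := S.conj_B_a hw s
  -- action on `t`
  have ht : ∃ z ∈ Z, cm y w * E.t * (cm y w)⁻¹ = z * E.t := by
    rw [hexp, hr', conj_mul_distrib', h1, hs', conj_mul_distrib w, conj_mul_distrib w,
      conj_mul_distrib w, conj_of_comm (S.Z_B hz1 hw).symm, conj_of_comm (S.B_b hw r), h2, hr]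
    have e1 : z1 * E.xb r * (z2 * E.xa s * (E.xb r * E.t))
        = (z1 * z2 * E.xc (s * r)) * (E.xa s * E.t) := by
      have e2 : E.xb r * (z2 * E.xa s * (E.xb r * E.t))
          = z2 * (E.xb r * E.xa s * (E.xb r * E.t)) := by
        calc E.xb r * (z2 * E.xa s * (E.xb r * E.t)) = (E.xb r * z2) * E.xa s * (E.xb r * E.t) := by
              group
          _ = (z2 * E.xb r) * E.xa s * (E.xb r * E.t) := by rw [S.c_b z2 hz2 r]
          _ = _ := by group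
      have e3 : E.xb r * E.xa s * (E.xb r * E.t) = E.xc (s * r) * (E.xa s * E.t) := by
        have e4 : E.xb r * E.xa s = E.xc (s * r) * (E.xa s * E.xb r) := by
          rw [E.a_b, ← mul_assoc, E.xc_sq, one_mul]
        rw [e4]
        calc E.xc (s * r) * (E.xa s * E.xb r) * (E.xb r * E.t)
            = E.xc (s * r) * E.xa s * (E.xb r * E.xb r) * E.t := by group
          _ = _ := by rw [E.xb_sq]; group
      rw [mul_assoc z1, e2, e3]
      group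
    rw [e1]
    have hzz : z1 * z2 * E.xc (s * r) ∈ Z := Z.mul_mem (Z.mul_mem hz1 hz2) (S.mem _)
    refine ⟨_, hzz, ?_⟩
    rw [conj_mul_distrib, conj_of_comm (S.Z_A hzz hy).symm, conj_mul_distrib,
      conj_of_comm (S.A_a hy s), hs, ← mul_assoc (E.xa s), E.xa_sq, one_mul]
  obtain ⟨z3, hz3, ht⟩ := ht
  -- `z3` commutes with `t`
  have hz3t : z3 * E.t = E.t * z3 := by
    have e1 : (z3 * E.t) * (z3 * E.t) = 1 := by
      rw [← ht]
      have : cm y w * E.t * (cm y w)⁻¹ * (cm y w * E.t * (cm y w)⁻¹)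
          = cm y w * (E.t * E.t) * (cm y w)⁻¹ := by group
      rw [this, E.t_sq, mul_one, mul_inv_cancel]
    have e2 : E.t * z3 = z3⁻¹ * E.t := by
      have : E.t * z3 = z3⁻¹ * ((z3 * E.t) * (z3 * E.t)) * E.t⁻¹ := by group
      rw [this, e1, mul_one, E.t_inv]
    rw [e2, inv_of_sq (S.Z_sq hz3)]
  obtain ⟨v, hv⟩ := S.cent z3 hz3 hz3t
  rw [hv] at ht
  obtain ⟨z4, hz4, h4⟩ := S.onto v
  have h4' := S.toPreRoot.inv_conj E.xc_sq hz4 h4
  have hct : z4⁻¹ * cm y w * E.t = E.t * (z4⁻¹ * cm y w) := by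
    apply comm_of_conj
    have e1 : z4⁻¹ * cm y w * E.t * (z4⁻¹ * cm y w)⁻¹
        = z4⁻¹ * (cm y w * E.t * (cm y w)⁻¹) * z4 := by group
    rw [e1, ht, conj_mul_distrib', conj_of_comm' (S.c_c hz4 _), h4', ← mul_assoc, E.xc_sq,
      one_mul]
  -- action on `xa x`
  have aux : ∀ (k : G) (hk : k * E.t = E.t * k) (g : G) (_ : E.t * g = g * E.t) (z : G) (_ : z ∈ Z),
      k * g * k⁻¹ = z * g → ∃ u, k * g * k⁻¹ = E.xc u * g := by
    intro k hk g hg z hz h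
    have e1 : z * E.t = E.t * z := by
      have e2 : z = k * g * k⁻¹ * g⁻¹ := by rw [h]; group
      have c1 : Commute k E.t := hk
      have c2 : Commute g E.t := (show Commute E.t g from hg).symm
      have c3 : Commute (k * g * k⁻¹ * g⁻¹) E.t :=
        ((c1.mul_left c2).mul_left c1.inv_left).mul_left c2.inv_left
      rw [e2]
      exact c3.eq
    obtain ⟨u, hu⟩ := S.cent z hz e1
    exact ⟨u, by rw [h, hu]⟩
  obtain ⟨x, b, z5, h5⟩ := E.cent_U (z4⁻¹ * cm y w) hct (fun x => by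
    obtain ⟨z6, hz6, h6⟩ := S.conj_B_a hwi x
    rw [inv_inv] at h6
    obtain ⟨z7, hz7, h7⟩ := S.conj_B_a hw x
    refine aux _ hct _ (E.t_a x) (z6 * z7) (Z.mul_mem hz6 hz7) ?_
    have e1 : z4⁻¹ * cm y w * E.xa x * (z4⁻¹ * cm y w)⁻¹
        = z4⁻¹ * (cm y w * E.xa x * (cm y w)⁻¹) * z4 := by group
    rw [e1, hexp, h6, conj_mul_distrib' y, conj_of_comm' (S.Z_A hz6 hy).symm,
      conj_of_comm' (S.A_a hy x), conj_mul_distrib w, conj_of_comm (S.Z_B hz6 hw).symm, h7,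
      conj_mul_distrib y, conj_of_comm (S.Z_A hz6 hy).symm, conj_mul_distrib y,
      conj_of_comm (S.Z_A hz7 hy).symm, conj_of_comm (S.A_a hy x), ← mul_assoc z6,
      conj_mul_distrib' z4, conj_of_comm' (S.comm _ hz4 _ (Z.mul_mem hz6 hz7)),
      conj_of_comm' (S.c_a _ hz4 x)]) (fun x => by
    obtain ⟨z6, hz6, h6⟩ := S.conj_A_b hyi x
    rw [inv_inv] at h6
    obtain ⟨z7, hz7, h7⟩ := S.conj_A_b hy x
    refine aux _ hct _ (E.t_b x) (z6 * z7) (Z.mul_mem hz6 hz7) ?_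
    have e1 : z4⁻¹ * cm y w * E.xb x * (z4⁻¹ * cm y w)⁻¹
        = z4⁻¹ * (cm y w * E.xb x * (cm y w)⁻¹) * z4 := by group
    rw [e1, hexp, conj_of_comm' (S.B_b hw x), h6, conj_mul_distrib w,
      conj_of_comm (S.Z_B hz6 hw).symm, conj_of_comm (S.B_b hw x), conj_mul_distrib y,
      conj_of_comm (S.Z_A hz6 hy).symm, h7, ← mul_assoc z6,
      conj_mul_distrib' z4, conj_of_comm' (S.comm _ hz4 _ (Z.mul_mem hz6 hz7)),
      conj_of_comm' (S.c_b _ hz4 x)])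
  have hzz : z4 * E.xc z5 ∈ Z := Z.mul_mem hz4 (S.mem _)
  refine ⟨z4 * E.xc z5, hzz, x, b, ?_⟩
  have e5 : E.xa x * E.xb b * E.xc z5 = E.xc z5 * (E.xa x * E.xb b) := by
    rw [mul_assoc, ← E.c_b, ← mul_assoc, ← E.c_a, mul_assoc]
  rcases h5 with h5 | h5
  · left
    rw [mul_assoc, ← e5, ← h5]
    group
  · right
    have e6 : E.t * (E.xa x * E.xb b * E.xc z5) = E.xc z5 * (E.t * (E.xa x * E.xb b)) := by
      rw [e5, ← mul_assoc, E.t_c, mul_assoc]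
    rw [mul_assoc, ← e6, ← h5]
    group

/-- The group `Z^ X_b`. -/
def Mb : Subgroup G where
  carrier := {g | ∃ z ∈ Z, ∃ r, g = z * E.xb r}
  mul_mem' := by
    rintro _ _ ⟨z, hz, r, rfl⟩ ⟨z', hz', r', rfl⟩
    refine ⟨z * z', Z.mul_mem hz hz', r + r', ?_⟩
    rw [E.xb_add]
    calc z * E.xb r * (z' * E.xb r') = z * (E.xb r * z') * E.xb r' := by group
      _ = z * (z' * E.xb r) * E.xb r' := by rw [S.c_b z' hz' r]
      _ = _ := by group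
  one_mem' := ⟨1, Z.one_mem, 0, by rw [E.xb_zero, mul_one]⟩
  inv_mem' := by
    rintro _ ⟨z, hz, r, rfl⟩
    refine ⟨z⁻¹, Z.inv_mem hz, r, ?_⟩
    rw [mul_inv_rev, E.xb_inv, ← comm_inv (S.c_b z hz r)]

theorem mem_Mb {g : G} : g ∈ S.Mb ↔ ∃ z ∈ Z, ∃ r, g = z * E.xb r := Iff.rfl

theorem Mb_t {g : G} (hg : g ∈ S.Mb) : E.t * g * E.t⁻¹ ∈ S.Mb := by
  obtain ⟨z, hz, r, rfl⟩ := hg
  refine ⟨_, S.toPreRoot.t_conj hz, r, ?_⟩
  rw [conj_mul_distrib, conj_of_comm (E.t_b r)]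

theorem Mb_a {g : G} (hg : g ∈ S.Mb) (a : F) : E.xa a * g * (E.xa a)⁻¹ ∈ S.Mb := by
  obtain ⟨z, hz, r, rfl⟩ := hg
  refine ⟨z * E.xc (a * r), Z.mul_mem hz (S.mem _), r, ?_⟩
  rw [conj_mul_distrib, conj_of_comm (S.c_a z hz a).symm, E.a_b]
  group

theorem Mb_b {g : G} (hg : g ∈ S.Mb) (a : F) : E.xb a * g * (E.xb a)⁻¹ ∈ S.Mb := by
  have h : E.xb a ∈ S.Mb := ⟨1, Z.one_mem, a, by rw [one_mul]⟩
  exact S.Mb.mul_mem (S.Mb.mul_mem h hg) (S.Mb.inv_mem h)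

theorem cm_A_B_mem_Mb {y w : G} (hy : y ∈ cj E.na Z) (hw : w ∈ cj E.nb Z) : cm y w ∈ S.Mb := by
  obtain ⟨g, hg, ga, gb, gc⟩ := E.exists_T_two
  obtain ⟨b, hb, hwb⟩ := S.rootB.exists_comm E.xb_add E.t_b hg E.mu_ne' gb hw
  have hgy : g * y = y * g := S.rootA.comm_of_T E.xa_sq hg ga hy
  rw [cm_right_eq hgy hwb]
  obtain ⟨s, hs⟩ := S.rootB.conj_t w hw
  obtain ⟨z, hz, a, c, h⟩ := S.cm_A_B hy hb
  have hzM : ∀ z ∈ Z, z ∈ S.Mb := fun z hz => ⟨z, hz, 0, by rw [E.xb_zero, mul_one]⟩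
  have key : ∀ e : G, (∃ m ∈ S.Mb, w * e * w⁻¹ = m * e) → (∃ m ∈ S.Mb, g * e * g⁻¹ = e * m) →
      (∀ m ∈ S.Mb, e * m * e⁻¹ ∈ S.Mb) → cm y b = z * e →
      (g * cm y b * g⁻¹) * (w * (cm y b)⁻¹ * w⁻¹) ∈ S.Mb := by
    rintro e ⟨m, hm, he1⟩ ⟨m', hm', he2⟩ he3 he
    rw [he, conj_mul_distrib, he2]
    have e1 : w * (z * e)⁻¹ * w⁻¹ = (w * e * w⁻¹)⁻¹ * (w * z * w⁻¹)⁻¹ := by group
    rw [e1, he1, conj_of_comm (S.Z_B hz hw).symm]
    have e2 : g * z * g⁻¹ * (e * m') * ((m * e)⁻¹ * z⁻¹)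
        = (g * z * g⁻¹) * (e * m' * e⁻¹) * m⁻¹ * z⁻¹ := by group
    rw [e2]
    exact S.Mb.mul_mem (S.Mb.mul_mem (S.Mb.mul_mem (hzM _ (S.conj_T g hg z hz)) (he3 _ hm'))
      (S.Mb.inv_mem hm)) (S.Mb.inv_mem (hzM z hz))
  obtain ⟨z', hz', hwa⟩ := S.conj_B_a hw a
  have hgc : g * E.xb c * g⁻¹ = E.xb c * E.xb ((E.mu + 1) * c) := by
    rw [gb, ← E.xb_add]
    congr 1
    have : c + (E.mu + 1) * c = E.mu * c + (c + c) := by ring
    rw [this, CharTwo.add_self_eq_zero, add_zero]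
  have hbM : ∀ r, E.xb r ∈ S.Mb := fun r => ⟨1, Z.one_mem, r, by rw [one_mul]⟩
  have hab : ∀ m ∈ S.Mb, (E.xa a * E.xb c) * m * (E.xa a * E.xb c)⁻¹ ∈ S.Mb := by
    intro m hm
    have : (E.xa a * E.xb c) * m * (E.xa a * E.xb c)⁻¹
        = E.xa a * (E.xb c * m * (E.xb c)⁻¹) * (E.xa a)⁻¹ := by group
    rw [this]
    exact S.Mb_a (S.Mb_b hm c) a
  rcases h with h | h
  · refine key _ ⟨z', hzM z' hz', ?_⟩ ⟨_, hbM ((E.mu + 1) * c), ?_⟩ hab h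
    · rw [conj_mul_distrib, hwa, conj_of_comm (S.B_b hw c), mul_assoc]
    · rw [conj_mul_distrib, conj_of_comm (ga a), hgc, mul_assoc]
  · refine key _ ⟨E.xb s * (E.t * z' * E.t⁻¹), S.Mb.mul_mem (hbM s) (S.Mb_t (hzM z' hz')), ?_⟩
      ⟨_, hbM ((E.mu + 1) * c), ?_⟩ ?_ h
    · rw [conj_mul_distrib, hs, conj_mul_distrib, hwa, conj_of_comm (S.B_b hw c)]
      group
    · rw [conj_mul_distrib, conj_of_comm (E.T_t g hg).symm, conj_mul_distrib, conj_of_comm (ga a),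
        hgc, mul_assoc, mul_assoc]
    · intro m hm
      have : (E.t * (E.xa a * E.xb c)) * m * (E.t * (E.xa a * E.xb c))⁻¹
          = E.t * ((E.xa a * E.xb c) * m * (E.xa a * E.xb c)⁻¹) * E.t⁻¹ := by group
      rw [this]
      exact S.Mb_t (hab m hm)

theorem A_B {y w : G} (hy : y ∈ cj E.na Z) (hw : w ∈ cj E.nb Z) : cm y w ∈ Z := by
  obtain ⟨g, hg, ga, gb, gc⟩ := E.exists_T_one
  obtain ⟨b, hb, hyb⟩ := S.rootA.exists_comm E.xa_add E.t_a hg E.mu_ne' ga hy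
  have hgw : g * w = w * g := S.rootB.comm_of_T E.xb_sq hg gb hw
  rw [cm_left_eq hgw hyb]
  obtain ⟨z, hz, r, h⟩ := S.cm_A_B_mem_Mb hb hw
  obtain ⟨z', hz', h'⟩ := S.conj_A_b hy r
  rw [h]
  have e1 : y * (z * E.xb r)⁻¹ * y⁻¹ = (y * E.xb r * y⁻¹)⁻¹ * (y * z * y⁻¹)⁻¹ := by group
  rw [e1, h', conj_of_comm (S.Z_A hz hy).symm, conj_mul_distrib, conj_of_comm (gb r)]
  have e2 : (z' * E.xb r)⁻¹ * z⁻¹ * (g * z * g⁻¹ * E.xb r)
      = (E.xb r)⁻¹ * (z'⁻¹ * z⁻¹ * (g * z * g⁻¹)) * E.xb r := by group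
  have h3 : z'⁻¹ * z⁻¹ * (g * z * g⁻¹) ∈ Z :=
    Z.mul_mem (Z.mul_mem (Z.inv_mem hz') (Z.inv_mem hz)) (S.conj_T g hg z hz)
  rw [e2, conj_of_comm' (S.c_b _ h3 r).symm]
  exact h3

end Seed

/-- **Growth in type `L₃(q)`.** -/
theorem Seed.grown {E : Env F G} {Z : Subgroup G} (S : Seed E Z) (ha : E.na * E.na = 1)
    (hb : E.nb * E.nb = 1) : Grown E (cj E.na Z) (cj E.nb Z) Z where
  rootA := S.rootA
  rootB := S.rootB
  rootZ := S.toPreRoot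
  A_sq g hg := S.A_sq hg
  B_sq g hg := S.B_sq hg
  Z_sq g hg := S.Z_sq hg
  Z_A g hg k hk := S.Z_A hg hk
  Z_B g hg k hk := S.Z_B hg hk
  A_B g hg k hk := S.A_B hg hk
  na_A g := by rw [mem_cj, inv_of_sq ha]
  na_Z g := by
    rw [mem_cj]
    have : E.na⁻¹ * (E.na * g * E.na⁻¹) * E.na = g := by group
    rw [this]
  nb_B g := by rw [mem_cj, inv_of_sq hb]
  nb_Z g := by
    rw [mem_cj]
    have : E.nb⁻¹ * (E.nb * g * E.nb⁻¹) * E.nb = g := by group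
    rw [this]
  T_a k hk h g hg := S.rootA.comm_of_T E.xa_sq hk h hg
  T_b k hk h g hg := S.rootB.comm_of_T E.xb_sq hk h hg
  T_c k hk h g hg := S.toPreRoot.comm_of_T E.xc_sq hk h hg

end Cfsg.Agent.StdRank2.L3G
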