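import Cfsg.Agent.StdRank2.L3G.Env

/-!
# Generalities on `PreRoot`
-/

set_option autoImplicit false
set_option linter.unusedSectionVars false

namespace Cfsg.Agent.StdRank2.L3G

open Subgroup

variable {F : Type*} [Field F] [CharP F 2] {G : Type*} [Group G]

/-- conjugate subgroup. -/
def cj (n : G) (R : Subgroup G) : Subgroup G := R.map (MulAut.conj n).toMonoidHom

theorem mem_cj {n : G} {R : Subgroup G} {g : G} : g ∈ cj n R ↔ n⁻¹ * g * n ∈ R := by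
  unfold cj
  rw [Subgroup.mem_map]
  constructor
  · rintro ⟨r, hr, rfl⟩
    have : n⁻¹ * ((MulAut.conj n).toMonoidHom r) * n = r := by
      simp [MulAut.conj_apply, mul_assoc]
    rwa [this]
  · intro h
    exact ⟨_, h, by simp [MulAut.conj_apply, mul_assoc]⟩

theorem conj_mem_cj {n : G} {R : Subgroup G} {g : G} (h : g ∈ R) : n * g * n⁻¹ ∈ cj n R := by
  rw [mem_cj]
  have : n⁻¹ * (n * g * n⁻¹) * n = g := by group
  rwa [this]

/-- odd power trick. -/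
theorem eq_one_of_odd {k y z : G} {m : ℕ} (hm : Odd m) (hk : k ^ m = 1) (h : k * y * k⁻¹ = y * z)
    (hkz : k * z = z * k) (hz : z * z = 1) : z = 1 := by
  have h1 : ∀ n : ℕ, k ^ n * y * (k ^ n)⁻¹ = y * z ^ n := by
    intro n
    induction n with
    | zero => simp
    | succ n ih =>
      have h2 : k ^ (n + 1) * y * (k ^ (n + 1))⁻¹ = k * (k ^ n * y * (k ^ n)⁻¹) * k⁻¹ := by
        rw [pow_succ']; group
      have h3 : k * z ^ n * k⁻¹ = z ^ n :=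
        conj_of_comm ((Commute.pow_right (show Commute k z from hkz) n).eq)
      have h4 : k * (y * z ^ n) * k⁻¹ = (k * y * k⁻¹) * (k * z ^ n * k⁻¹) := by group
      rw [h2, ih, h4, h, h3, pow_succ' z n, mul_assoc]
  have h2 := h1 m
  rw [hk, one_mul, inv_one, mul_one] at h2
  have h3 : z ^ m = 1 := by
    have := h2.symm
    rwa [mul_eq_left] at this
  obtain ⟨j, rfl⟩ := hm
  rw [pow_succ, pow_mul, pow_two, hz, one_pow, one_mul] at h3
  exact h3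

namespace PreRoot

variable {E : Env F G} {x : F → G} {R : Subgroup G}

theorem of_conj_t_eq (P : PreRoot E x R) {y y' : G} (hy : y ∈ R) (hy' : y' ∈ R)
    (h : y * E.t * y⁻¹ = y' * E.t * y'⁻¹) : ∃ c, y' = y * x c := by
  obtain ⟨c, hc⟩ := P.cent (y⁻¹ * y') (R.mul_mem (R.inv_mem hy) hy') (by
    apply comm_of_conj
    have : y⁻¹ * y' * E.t * (y⁻¹ * y')⁻¹ = y⁻¹ * (y' * E.t * y'⁻¹) * y := by group
    rw [this, ← h]
    group)
  exact ⟨c, by rw [← hc, mul_inv_cancel_left]⟩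

/-- `y t y⁻¹ = x c t` implies `y⁻¹ t y = x c t`. -/
theorem inv_conj (P : PreRoot E x R) (hx2 : ∀ c, x c * x c = 1) {y : G} (hy : y ∈ R) {c : F}
    (h : y * E.t * y⁻¹ = x c * E.t) : y⁻¹ * E.t * y = x c * E.t := by
  have h1 : y * x c = x c * y := P.comm y hy _ (P.mem c)
  have h2 : E.t = y⁻¹ * (x c * E.t) * y := by rw [← h]; group
  have h3 : y⁻¹ * (x c * E.t) * y = x c * (y⁻¹ * E.t * y) := by
    have : y⁻¹ * x c = x c * y⁻¹ := by
      rw [inv_mul_eq_iff_eq_mul, ← mul_assoc, h1, mul_assoc, mul_inv_cancel, mul_one]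
    simp only [← mul_assoc]
    rw [this]
  rw [h3] at h2
  calc y⁻¹ * E.t * y = (x c * x c) * (y⁻¹ * E.t * y) := by rw [hx2, one_mul]
    _ = x c * E.t := by rw [mul_assoc, ← h2]

/-- `t` normalises `R`. -/
theorem t_conj (P : PreRoot E x R) {g : G} (hg : g ∈ R) : E.t * g * E.t⁻¹ ∈ R := by
  obtain ⟨c, hc⟩ := P.conj_t g hg
  have h1 : g * E.t = x c * E.t * g := by rw [← hc, inv_mul_cancel_right]
  have h2 : E.t * g * E.t⁻¹ = (x c)⁻¹ * g := by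
    rw [eq_inv_mul_iff_mul_eq, ← mul_assoc, ← mul_assoc, ← h1, mul_inv_cancel_right]
  rw [h2]
  exact R.mul_mem (R.inv_mem (P.mem c)) hg

theorem comm_of_T (P : PreRoot E x R) (hx2 : ∀ c, x c * x c = 1) {k : G} (hk : k ∈ E.T)
    (h : ∀ c, k * x c = x c * k) {y : G} (hy : y ∈ R) : k * y = y * k := by
  obtain ⟨c, hc⟩ := P.conj_t y hy
  have h1 : y * E.t * y⁻¹ = (k * y * k⁻¹) * E.t * (k * y * k⁻¹)⁻¹ := by
    have h2 : k⁻¹ * E.t * k = E.t := by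
      rw [mul_assoc, E.T_t k hk, inv_mul_cancel_left]
    have h3 : (k * y * k⁻¹) * E.t * (k * y * k⁻¹)⁻¹ = k * (y * (k⁻¹ * E.t * k) * y⁻¹) * k⁻¹ := by
      group
    rw [h3, h2, hc]
    have h4 : k * (x c * E.t) * k⁻¹ = (k * x c * k⁻¹) * (k * E.t * k⁻¹) := by group
    rw [h4, conj_of_comm (h c), conj_of_comm (E.T_t k hk).symm]
  obtain ⟨d, hd⟩ := P.of_conj_t_eq hy (P.conj_T k hk y hy) h1
  obtain ⟨m, hm, hkm⟩ := E.T_odd k hk
  have h5 := eq_one_of_odd hm hkm hd (h d) (hx2 d)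
  rw [h5, mul_one] at hd
  exact comm_of_conj hd

theorem exists_comm (P : PreRoot E x R) (hx : ∀ a b, x (a + b) = x a * x b)
    (hxt : ∀ a, E.t * x a = x a * E.t) {k : G} (hk : k ∈ E.T) {v : F} (hv : v ≠ 1)
    (h : ∀ c, k * x c * k⁻¹ = x (v * c)) {y : G} (hy : y ∈ R) :
    ∃ y' ∈ R, y = k * y' * k⁻¹ * y'⁻¹ := by
  have hx2 : ∀ c, x c * x c = 1 := by
    intro c
    rw [← hx, CharTwo.add_self_eq_zero, hom_zero hx]
  obtain ⟨s, hs⟩ := P.conj_t y hy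
  have hv' := sub_ne hv
  obtain ⟨y1, hy1, hc1⟩ := P.onto (s / (v + 1))
  set s' := s / (v + 1) with hs'
  have hk1 : k * y1 * k⁻¹ ∈ R := P.conj_T k hk _ hy1
  have hd : k * y1 * k⁻¹ * y1⁻¹ ∈ R := R.mul_mem hk1 (R.inv_mem hy1)
  have h1 : (k * y1 * k⁻¹ * y1⁻¹) * E.t * (k * y1 * k⁻¹ * y1⁻¹)⁻¹ = x s * E.t := by
    have e1 := P.inv_conj hx2 hy1 hc1
    have e2 : (k * y1 * k⁻¹ * y1⁻¹) * E.t * (k * y1 * k⁻¹ * y1⁻¹)⁻¹
        = (k * y1 * k⁻¹) * (y1⁻¹ * E.t * y1) * (k * y1 * k⁻¹)⁻¹ := by group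
    rw [e2, e1]
    have e3 : (k * y1 * k⁻¹) * (x s' * E.t) * (k * y1 * k⁻¹)⁻¹
        = ((k * y1 * k⁻¹) * x s' * (k * y1 * k⁻¹)⁻¹) * ((k * y1 * k⁻¹) * E.t * (k * y1 * k⁻¹)⁻¹) := by
      group
    rw [e3, conj_of_comm (P.comm _ hk1 _ (P.mem s'))]
    have e4 : k⁻¹ * E.t * k = E.t := by rw [mul_assoc, E.T_t k hk, inv_mul_cancel_left]
    have e5 : (k * y1 * k⁻¹) * E.t * (k * y1 * k⁻¹)⁻¹ = k * (y1 * (k⁻¹ * E.t * k) * y1⁻¹) * k⁻¹ := by
      group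
    rw [e5, e4, hc1]
    have e6 : k * (x s' * E.t) * k⁻¹ = (k * x s' * k⁻¹) * (k * E.t * k⁻¹) := by group
    rw [e6, h, conj_of_comm (E.T_t k hk).symm, ← mul_assoc, ← hx]
    congr 2
    rw [hs']
    field_simp
    ring
  obtain ⟨u, hu⟩ := P.of_conj_t_eq hd hy (by rw [h1, hs])
  refine ⟨y1 * x (u / (v + 1)), R.mul_mem hy1 (P.mem _), ?_⟩
  set u' := u / (v + 1) with hu'
  have e1 : k * (y1 * x u') * k⁻¹ * (y1 * x u')⁻¹
      = (k * y1 * k⁻¹) * ((k * x u' * k⁻¹) * (x u')⁻¹) * y1⁻¹ := by group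
  have e2 : (x u')⁻¹ = x u' := inv_of_sq (hx2 u')
  have e3 : v * u' + u' = u := by
    rw [hu']
    field_simp
  have e4 : x u * y1⁻¹ = y1⁻¹ * x u := P.comm _ (P.mem u) _ (R.inv_mem hy1)
  rw [e1, h, e2, ← hx, e3, mul_assoc, e4, ← mul_assoc, ← hu]

theorem conj (P : PreRoot E x R) {n : G} (hn : E.t * n = n * E.t)
    (hT : ∀ g, g ∈ E.T ↔ n * g * n⁻¹ ∈ E.T) {x' : F → G} (hx' : ∀ c, n * x c * n⁻¹ = x' c) :
    PreRoot E x' (cj n R) := by
  have hn' : n⁻¹ * E.t = E.t * n⁻¹ := by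
    rw [inv_mul_eq_iff_eq_mul, ← mul_assoc, ← hn, mul_assoc, mul_inv_cancel, mul_one]
  have ht : ∀ g, n⁻¹ * (g * E.t * g⁻¹) * n = (n⁻¹ * g * n) * E.t * (n⁻¹ * g * n)⁻¹ := by
    intro g
    have e1 : (n⁻¹ * g * n) * E.t * (n⁻¹ * g * n)⁻¹ = n⁻¹ * (g * (n * E.t * n⁻¹) * g⁻¹) * n := by
      group
    rw [e1, ← hn, mul_inv_cancel_right]
  have hxt : ∀ c, n⁻¹ * (x' c * E.t) * n = x c * E.t := by
    intro c
    rw [← hx' c]
    have e1 : n⁻¹ * (n * x c * n⁻¹ * E.t) * n = x c * (n⁻¹ * E.t) * n := by group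
    rw [e1, hn', mul_assoc, inv_mul_cancel_right]
  refine ⟨?_, ?_, ?_, ?_, ?_, ?_⟩
  · intro c
    rw [← hx' c]
    exact conj_mem_cj (P.mem c)
  · intro g hg k hk
    rw [mem_cj] at hg hk
    have h1 := P.comm _ hg _ hk
    have h2 : g * k = n * ((n⁻¹ * g * n) * (n⁻¹ * k * n)) * n⁻¹ := by group
    have h3 : k * g = n * ((n⁻¹ * k * n) * (n⁻¹ * g * n)) * n⁻¹ := by group
    rw [h2, h3, h1]
  · intro g hg
    rw [mem_cj] at hg
    obtain ⟨c, hc⟩ := P.conj_t _ hg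
    refine ⟨c, ?_⟩
    rw [← ht, ← hxt] at hc
    have := mul_right_cancel hc
    exact mul_left_cancel this
  · intro c
    obtain ⟨g, hg, h⟩ := P.onto c
    refine ⟨n * g * n⁻¹, conj_mem_cj hg, ?_⟩
    have h1 : n⁻¹ * ((n * g * n⁻¹) * E.t * (n * g * n⁻¹)⁻¹) * n = n⁻¹ * (x' c * E.t) * n := by
      rw [ht, hxt, ← h]
      group
    exact mul_left_cancel (mul_right_cancel h1)
  · intro g hg h
    rw [mem_cj] at hg
    have h0 := hn'
    obtain ⟨c, hc⟩ := P.cent _ hg (by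
      have e1 : n⁻¹ * g * n * E.t = n⁻¹ * g * (n * E.t) := by group
      rw [e1, ← hn]
      have e2 : n⁻¹ * g * (E.t * n) = n⁻¹ * (g * E.t) * n := by group
      rw [e2, h]
      have e3 : n⁻¹ * (E.t * g) * n = (n⁻¹ * E.t) * g * n := by group
      rw [e3, hn']
      group)
    refine ⟨c, ?_⟩
    rw [← hx' c, ← hc]
    group
  · intro k hk g hg
    rw [mem_cj] at hg ⊢
    have h1 : n⁻¹ * k * n ∈ E.T := by
      rw [hT]
      have : n * (n⁻¹ * k * n) * n⁻¹ = k := by group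
      rwa [this]
    have h2 := P.conj_T _ h1 _ hg
    have h3 : (n⁻¹ * k * n) * (n⁻¹ * g * n) * (n⁻¹ * k * n)⁻¹ = n⁻¹ * (k * g * k⁻¹) * n := by group
    rwa [h3] at h2

end PreRoot

end Cfsg.Agent.StdRank2.L3G
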