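import Cfsg.Agent.StdRank2.L3G.Core
import Mathlib.SetTheory.Cardinal.Finite
import Mathlib.GroupTheory.Index

/-!
# More facts on the grown group `S^`: centre, commutators, orders, normalisers
-/

set_option autoImplicit false
set_option linter.unusedSectionVars false

namespace Cfsg.Agent.StdRank2.L3G

open Subgroup

variable {F : Type*} [Field F] [CharP F 2] {G : Type*} [Group G]

namespace Core

variable {E : Base F G} {A B Z : Subgroup G} (C : Core E A B Z)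
include C

/-- `y ∈ A` moves `t` by `xa s`: then `[xb r, y]` moves `t` by `xc (s r)`. -/
theorem cm_b_A_act {y : G} {r s : F} (hy : y ∈ A) (hs : y * E.t * y⁻¹ = E.xa s * E.t) :
    cm (E.xb r) y * E.t * (cm (E.xb r) y)⁻¹ = E.xc (s * r) * E.t := by
  have ya : ∀ x, y * E.xa x = E.xa x * y := fun x => C.A_comm hy (C.memA x)
  have yc : ∀ x, y * E.xc x = E.xc x * y := fun x => (C.Z_A _ (C.memZ x) y hy).symm
  have hyi : y⁻¹ * E.t * y = E.xa s * E.t := by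
    have h2 : E.t = y⁻¹ * (E.xa s * E.t) * y := by rw [← hs]; group
    have h3 : y⁻¹ * (E.xa s * E.t) * y = E.xa s * (y⁻¹ * E.t * y) := by
      rw [conj_mul_distrib', conj_of_comm' (ya s)]
    rw [h3] at h2
    calc y⁻¹ * E.t * y = (E.xa s * E.xa s) * (y⁻¹ * E.t * y) := by rw [E.xa_sq, one_mul]
      _ = E.xa s * E.t := by rw [mul_assoc, ← h2]
  have hba : ∀ x, E.xb r * E.xa x * E.xb r = E.xc (x * r) * E.xa x := by
    intro x
    have h1 := E.swap.a_b r x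
    simp only [Base.swap_xa, Base.swap_xb, Base.swap_xc] at h1
    rw [h1, mul_comm r x, mul_assoc, mul_assoc, E.xb_sq, mul_one]
  have hexp : cm (E.xb r) y * E.t * (cm (E.xb r) y)⁻¹
      = E.xb r * (y * (E.xb r * (y⁻¹ * E.t * y) * E.xb r) * y⁻¹) * E.xb r := by
    unfold cm
    rw [E.xb_inv]
    have : (E.xb r * y * E.xb r * y⁻¹)⁻¹ = y * (E.xb r)⁻¹ * y⁻¹ * (E.xb r)⁻¹ := by group
    rw [this, E.xb_inv]
    group
  rw [hexp, hyi]
  have e1 : E.xb r * (E.xa s * E.t) * E.xb r = E.xc (s * r) * (E.xa s * E.t) := by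
    have : E.xb r * (E.xa s * E.t) * E.xb r = (E.xb r * E.xa s * E.xb r) * E.t := by
      rw [mul_assoc, mul_assoc (E.xa s), E.t_b]; group
    rw [this, hba, mul_assoc]
  rw [e1, conj_mul_distrib, conj_of_comm (yc _), conj_mul_distrib, conj_of_comm (ya _),
    hs, ← mul_assoc (E.xa s), E.xa_sq, one_mul]
  calc E.xb r * (E.xc (s * r) * E.t) * E.xb r
      = (E.xb r * E.xc (s * r)) * (E.t * E.xb r) := by group
    _ = E.xc (s * r) * E.t := by
      rw [← E.c_b, E.t_b, mul_assoc, ← mul_assoc (E.xb r), E.xb_sq, one_mul]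

/-- `[S^, S^] ≤ Z^`. -/
theorem comm_mem {x y : G} (hx : x ∈ C.Sh) (hy : y ∈ C.Sh) : x * y * x⁻¹ * y⁻¹ ∈ Z := by
  change cm x y ∈ Z
  obtain ⟨a, ha, b, hb, z, hz, rfl⟩ := hx
  obtain ⟨a', ha', b', hb', z', hz', rfl⟩ := hy
  have hcen : ∀ w ∈ Z, ∀ g ∈ C.Sh, g * w * g⁻¹ = w := fun w hw g hg =>
    conj_of_comm (C.Z_Sh hw hg).symm
  have hone : ∀ w ∈ Z, ∀ g ∈ C.Sh, cm w g = 1 := by
    intro w hw g hg
    unfold cm
    rw [conj_of_comm (C.Z_Sh hw hg), mul_inv_cancel]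
  have hone' : ∀ w ∈ Z, ∀ g ∈ C.Sh, cm g w = 1 := by
    intro w hw g hg
    unfold cm
    rw [hcen w hw g hg, mul_inv_cancel]
  have haS := C.A_le ha
  have hbS := C.B_le hb
  have haS' := C.A_le ha'
  have hbS' := C.B_le hb'
  have haa : cm a a' = 1 := by unfold cm; rw [conj_of_comm (C.A_comm ha ha'), mul_inv_cancel]
  have hbb : cm b b' = 1 := by unfold cm; rw [conj_of_comm (C.B_comm hb hb'), mul_inv_cancel]
  have hab : cm a b' ∈ Z := C.A_B a ha b' hb'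
  have hba : cm b a' ∈ Z := C.swap.A_B b hb a' ha'
  have h1 : cm a (a' * b') = cm a b' := by
    rw [cm_mul_right, haa, one_mul, hcen _ hab a' haS']
  have h2 : cm b (a' * b') = cm b a' := by
    rw [cm_mul_right, hbb, mul_one, mul_inv_cancel, mul_one]
  rw [cm_mul_left, hone z hz _ (C.Sh.mul_mem (C.Sh.mul_mem haS' hbS') (C.Z_le hz')), mul_one,
    mul_inv_cancel, one_mul, cm_mul_right, hone' z' hz' _ (C.Sh.mul_mem haS hbS), mul_one,
    mul_inv_cancel, mul_one, cm_mul_left, h1, h2, hcen _ hba a haS]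
  exact Z.mul_mem hba hab

/-- The centre of `S^` is `Z^`. -/
theorem center {x : G} (hx : x ∈ C.Sh) (h : ∀ y ∈ C.Sh, x * y = y * x) : x ∈ Z := by
  obtain ⟨a, ha, b, hb, z, hz, rfl⟩ := hx
  -- `a = 1`
  have hcen : ∀ w ∈ Z, ∀ g ∈ C.Sh, g * w * g⁻¹ = w := fun w hw g hg =>
    conj_of_comm (C.Z_Sh hw hg).symm
  have key : ∀ (E' : Base F G) (A' B' : Subgroup G) (C' : Core E' A' B' Z) (a' : G) (ha' : a' ∈ A'),
      (∀ y ∈ B', a' * y = y * a') → ∃ s, a' = E'.xa s ∧ s = 0 := by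
    intro E' A' B' C' a' ha' h'
    obtain ⟨s, hs⟩ := C'.conjA a' ha'
    have h1 := C'.cm_b_A_act (r := 1) ha' hs
    have h2 : cm (E'.xb 1) a' = 1 := by
      unfold cm
      rw [conj_of_comm (h' _ (C'.memB 1)).symm, mul_inv_cancel]
    rw [h2, one_mul, inv_one, mul_one, mul_one] at h1
    have h3 : E'.xc s = 1 := (mul_right_cancel ((one_mul _).trans h1)).symm
    have h4 := E'.xc_eq_one h3
    subst h4
    rw [E'.xa_zero, one_mul] at hs
    obtain ⟨s', rfl⟩ := C'.centA a' ha' (comm_of_conj hs)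
    refine ⟨s', rfl, ?_⟩
    obtain ⟨w, hw, hwt⟩ := C'.ontoB 1
    have h5 := C'.swap.cm_b_A_act (r := s') hw hwt
    simp only [Base.swap_xb, Base.swap_t, Base.swap_xc] at h5
    have h6 : cm (E'.xa s') w = 1 := by
      unfold cm
      rw [conj_of_comm (h' w hw), mul_inv_cancel]
    rw [h6, one_mul, inv_one, mul_one, one_mul] at h5
    exact E'.xc_eq_one (mul_right_cancel ((one_mul _).trans h5)).symm
  have hab : ∀ y ∈ C.Sh, (a * b) * y = y * (a * b) := by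
    intro y hy
    have h1 := h y hy
    have h2 := C.Z_Sh hz hy
    have h3 : a * b * y * z = y * (a * b) * z := by
      calc a * b * y * z = a * b * (y * z) := by group
        _ = a * b * z * y := by rw [← h2]; group
        _ = y * (a * b) * z := by rw [h1]; group
    exact mul_right_cancel h3
  obtain ⟨s, hs, hs0⟩ := key E A B C a ha (fun y hy => by
    have h1 := hab y (C.B_le hy)
    have h2 := C.B_comm hb hy
    have h3 : a * y * b = y * a * b := by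
      calc a * y * b = a * (y * b) := by group
        _ = a * b * y := by rw [← h2]; group
        _ = y * (a * b) := h1
        _ = _ := by group
    exact mul_right_cancel h3)
  obtain ⟨r, hr, hr0⟩ := key E.swap B A C.swap b hb (fun y hy => by
    have h1 := hab y (C.A_le hy)
    have h2 := C.A_comm ha hy
    have h3 : a * (b * y) = a * (y * b) := by
      calc a * (b * y) = a * b * y := by group
        _ = y * (a * b) := h1
        _ = (y * a) * b := by group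
        _ = _ := by rw [← h2]; group
    exact mul_left_cancel h3)
  rw [hs, hr, hs0, hr0, E.xa_zero]
  have : E.swap.xa 0 = 1 := E.swap.xa_zero
  rw [this, one_mul, one_mul]
  exact hz

/-- unique factorisation. -/
theorem factor {a b z : G} (ha : a ∈ A) (hb : b ∈ B) (hz : z ∈ Z) (h : a * b * z = 1) :
    a = 1 ∧ b = 1 ∧ z = 1 := by
  obtain ⟨s, hs⟩ := C.conjA a ha
  obtain ⟨r, hr⟩ := C.conjB b hb
  obtain ⟨z0, hz0, h0⟩ := C.act ha hb hz hs hr
  rw [h, one_mul, inv_one, mul_one] at h0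
  have h1 : z0 * (E.xa s * E.xb r) = 1 := mul_right_cancel (h0.symm.trans (one_mul _).symm)
  have h2 : E.xa s * E.xb r ∈ Z := by
    rw [eq_inv_of_mul_eq_one_right h1]
    exact Z.inv_mem hz0
  obtain ⟨rfl, rfl⟩ := C.Z_inter_U h2
  rw [E.xa_zero, one_mul] at hs
  rw [E.xb_zero, one_mul] at hr
  obtain ⟨x, rfl⟩ := C.centA a ha (comm_of_conj hs)
  obtain ⟨y, rfl⟩ := C.centB b hb (comm_of_conj hr)
  obtain ⟨c, rfl⟩ := C.centZ z hz (by
    have e1 : (E.xa x * E.xb y) * E.t = E.t * (E.xa x * E.xb y) := by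
      rw [mul_assoc, ← E.t_b, ← mul_assoc, ← E.t_a, mul_assoc]
    have e2 : (E.xa x * E.xb y) * (z * E.t) = (E.xa x * E.xb y) * (E.t * z) := by
      calc (E.xa x * E.xb y) * (z * E.t) = (E.xa x * E.xb y * z) * E.t := by group
        _ = E.t * (E.xa x * E.xb y * z) := by rw [h, one_mul, mul_one]
        _ = (E.t * (E.xa x * E.xb y)) * z := by group
        _ = _ := by rw [← e1]; group
    exact mul_left_cancel e2)
  obtain ⟨h3, h4, h5⟩ := E.u_inj x y c h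
  subst h3 h4 h5
  exact ⟨E.xa_zero, E.xb_zero, E.xc_zero⟩

section Card

variable [Finite F]

omit C in
theorem card_aux {x : F → G} {R : Subgroup G} {t : G} (hx : ∀ a b, x (a + b) = x a * x b)
    (hinj : ∀ a, x a = 1 → a = 0) (hmem : ∀ c, x c ∈ R)
    (hconj : ∀ g ∈ R, ∃ c, g * t * g⁻¹ = x c * t) (honto : ∀ c, ∃ g ∈ R, g * t * g⁻¹ = x c * t)
    (hcent : ∀ g ∈ R, g * t = t * g → ∃ c, g = x c) (hxt : ∀ c, t * x c = x c * t) :
    Nat.card R = Nat.card F ^ 2 := by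
  classical
  choose p hpR hp using honto
  have hinj' : ∀ a b, x a = x b → a = b := by
    intro a b h
    apply Env.add_eq_zero'
    apply hinj
    rw [hx, h, ← hx, CharTwo.add_self_eq_zero, hom_zero hx]
  let φ : F × F → R := fun w => ⟨p w.1 * x w.2, R.mul_mem (hpR _) (hmem _)⟩
  have hact : ∀ w : F × F, (p w.1 * x w.2) * t * (p w.1 * x w.2)⁻¹ = x w.1 * t := by
    intro w
    have e1 : (p w.1 * x w.2) * t * (p w.1 * x w.2)⁻¹ = p w.1 * (x w.2 * t * (x w.2)⁻¹) * (p w.1)⁻¹ := by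
      group
    rw [e1, conj_of_comm (hxt _).symm, hp]
  have hbij : Function.Bijective φ := by
    constructor
    · rintro ⟨a, b⟩ ⟨a', b'⟩ h
      have h1 : p a * x b = p a' * x b' := congrArg Subtype.val h
      have h2 := hact (a, b)
      have h3 := hact (a', b')
      simp only at h2 h3
      rw [h1, h3] at h2
      have h4 : a = a' := (hinj' _ _ (mul_right_cancel h2)).symm
      subst h4
      have h5 := hinj' _ _ (mul_left_cancel h1)
      rw [h5]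
    · rintro ⟨g, hg⟩
      obtain ⟨c, hc⟩ := hconj g hg
      have h1 : (p c)⁻¹ * g ∈ R := R.mul_mem (R.inv_mem (hpR c)) hg
      obtain ⟨d, hd⟩ := hcent _ h1 (by
        apply comm_of_conj
        have e1 : (p c)⁻¹ * g * t * ((p c)⁻¹ * g)⁻¹ = (p c)⁻¹ * (g * t * g⁻¹) * p c := by group
        rw [e1, hc, ← hp c]
        group)
      refine ⟨(c, d), ?_⟩
      apply Subtype.ext
      change p c * x d = g
      rw [← hd]; group
  rw [← Nat.card_congr (Equiv.ofBijective φ hbij), Nat.card_prod, pow_two]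

theorem card_A : Nat.card A = Nat.card F ^ 2 :=
  card_aux E.xa_add (fun _ => E.xa_eq_one) C.memA C.conjA C.ontoA
    C.centA E.t_a

theorem card_B : Nat.card B = Nat.card F ^ 2 := C.swap.card_A

theorem card_Z : Nat.card Z = Nat.card F ^ 2 :=
  card_aux E.xc_add (fun _ => E.xc_eq_one) C.memZ C.conjZ C.ontoZ
    C.centZ E.t_c

theorem card_Sh : Nat.card C.Sh = Nat.card F ^ 6 := by
  have hbij : Function.Bijective (fun w : A × B × Z =>
      (⟨w.1 * w.2.1 * w.2.2, ⟨_, w.1.2, _, w.2.1.2, _, w.2.2.2, rfl⟩⟩ : C.Sh)) := by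
    constructor
    · rintro ⟨⟨a, ha⟩, ⟨b, hb⟩, ⟨z, hz⟩⟩ ⟨⟨a', ha'⟩, ⟨b', hb'⟩, ⟨z', hz'⟩⟩ h
      have h1 : a * b * z = a' * b' * z' := congrArg Subtype.val h
      have h2 : (a'⁻¹ * a) * (b * b'⁻¹) * (z * z'⁻¹) = 1 := by
        have e1 : (a'⁻¹ * a) * (b * b'⁻¹) * (z * z'⁻¹)
            = a'⁻¹ * (a * b) * ((b'⁻¹ * z) * z'⁻¹) := by group
        have e2 : b'⁻¹ * z = z * b'⁻¹ := (C.Z_B z hz _ (B.inv_mem hb')).symm
        have e3 : a * b * z = a * b * z := rfl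
        rw [e1, e2]
        have e4 : a'⁻¹ * (a * b) * (z * b'⁻¹ * z'⁻¹) = a'⁻¹ * (a * b * z) * (b'⁻¹ * z'⁻¹) := by
          group
        have e5 : b'⁻¹ * z'⁻¹ = z'⁻¹ * b'⁻¹ :=
          (C.Z_B _ (Z.inv_mem hz') _ (B.inv_mem hb')).symm
        rw [e4, h1, e5]
        group
      obtain ⟨h3, h4, h5⟩ := C.factor (A.mul_mem (A.inv_mem ha') ha) (B.mul_mem hb (B.inv_mem hb'))
        (Z.mul_mem hz (Z.inv_mem hz')) h2
      have h6 : a = a' := (inv_mul_eq_one.1 h3).symm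
      have h7 : b = b' := mul_inv_eq_one.1 h4
      have h8 : z = z' := mul_inv_eq_one.1 h5
      subst h6 h7 h8
      rfl
    · rintro ⟨g, a, ha, b, hb, z, hz, rfl⟩
      exact ⟨(⟨a, ha⟩, ⟨b, hb⟩, ⟨z, hz⟩), rfl⟩
  rw [← Nat.card_congr (Equiv.ofBijective _ hbij), Nat.card_prod, Nat.card_prod, C.card_A,
    C.card_B, C.card_Z]
  ring

end Card

/-! ### Normalisers -/

/-- `V₁ = A^ Z^`. -/
def V1 : Subgroup G where
  carrier := {g | ∃ a ∈ A, ∃ z ∈ Z, g = a * z}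
  mul_mem' := by
    rintro _ _ ⟨a, ha, z, hz, rfl⟩ ⟨a', ha', z', hz', rfl⟩
    refine ⟨a * a', A.mul_mem ha ha', z * z', Z.mul_mem hz hz', ?_⟩
    calc a * z * (a' * z') = a * (z * a') * z' := by group
      _ = _ := by rw [C.Z_A z hz a' ha']; group
  one_mem' := ⟨1, A.one_mem, 1, Z.one_mem, by simp⟩
  inv_mem' := by
    rintro _ ⟨a, ha, z, hz, rfl⟩
    refine ⟨a⁻¹, A.inv_mem ha, z⁻¹, Z.inv_mem hz, ?_⟩
    rw [mul_inv_rev]
    exact C.Z_A _ (Z.inv_mem hz) _ (A.inv_mem ha)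

theorem mem_V1 {g : G} : g ∈ C.V1 ↔ ∃ a ∈ A, ∃ z ∈ Z, g = a * z := Iff.rfl

theorem V1_le : C.V1 ≤ C.Sh := by
  rintro _ ⟨a, ha, z, hz, rfl⟩
  exact C.Sh.mul_mem (C.A_le ha) (C.Z_le hz)

theorem V1_sq {g : G} (hg : g ∈ C.V1) : g * g = 1 := by
  obtain ⟨a, ha, z, hz, rfl⟩ := hg
  calc a * z * (a * z) = a * (z * a) * z := by group
    _ = (a * a) * (z * z) := by rw [C.Z_A z hz a ha]; group
    _ = 1 := by rw [C.A_sq a ha, C.Z_sq z hz, one_mul]

theorem E1_le_V1 : E.E1 ≤ C.V1 := by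
  rintro _ ⟨x, z, rfl⟩
  exact ⟨_, C.memA x, _, C.memZ z, rfl⟩

theorem V1_comm {g k : G} (hg : g ∈ C.V1) (hk : k ∈ C.V1) : g * k = k * g :=
  comm_of_sq' C (fun _ => C.V1_sq) hg hk

theorem t_V1 {g : G} (hg : g ∈ C.V1) : E.t * g * E.t⁻¹ ∈ C.V1 := by
  obtain ⟨a, ha, z, hz, rfl⟩ := hg
  exact ⟨_, C.t_A ha, _, C.t_Z hz, by group⟩

theorem V1_cent {g : G} (hg : g ∈ C.V1) (h : g * E.t = E.t * g) : g ∈ E.E1 := by
  obtain ⟨a, ha, z, hz, rfl⟩ := hg
  obtain ⟨s, hs⟩ := C.conjA a ha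
  obtain ⟨u, hu⟩ := C.conjZ z hz
  have e1 : a * z * E.t * (a * z)⁻¹ = a * (z * E.t * z⁻¹) * a⁻¹ := by group
  have e2 : E.t = E.xc u * E.xa s * E.t := by
    have h1 := conj_of_comm h
    rw [e1, hu, conj_mul_distrib, conj_of_comm (C.Z_A _ (C.memZ u) a ha).symm, hs,
      ← mul_assoc] at h1
    exact h1.symm
  have e3 : E.xc u * E.xa s = 1 := mul_right_cancel (e2.symm.trans (one_mul _).symm)
  have e4 : E.xa s * E.xb 0 * E.xc u = 1 := by rw [E.xb_zero, mul_one, ← E.c_a, e3]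
  obtain ⟨rfl, -, rfl⟩ := E.u_inj _ _ _ e4
  rw [E.xa_zero, one_mul] at hs
  rw [E.xc_zero, one_mul] at hu
  obtain ⟨x, rfl⟩ := C.centA a ha (comm_of_conj hs)
  obtain ⟨c, rfl⟩ := C.centZ z hz (comm_of_conj hu)
  exact ⟨x, c, rfl⟩

/-- `C(t) ∩ C(E₁) = ⟨t⟩ E₁`. -/
def _root_.Cfsg.Agent.StdRank2.L3G.Base.CentOne (E : Base F G) : Prop :=
  ∀ c, c * E.t = E.t * c → (∀ g ∈ E.E1, c * g = g * c) → c ∈ E.E1 ∨ E.t * c ∈ E.E1

theorem mem_V1_or (h1 : E.CentOne) {y : G} (hy : ∀ g ∈ E.E1, y * g = g * y)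
    (hyt : ∃ e ∈ E.E1, y * E.t * y⁻¹ = e * E.t) : y ∈ C.V1 ∨ E.t * y ∈ C.V1 := by
  obtain ⟨e, ⟨s, u, rfl⟩, he⟩ := hyt
  obtain ⟨a, ha, has⟩ := C.ontoA s
  obtain ⟨z, hz, hzu⟩ := C.ontoZ u
  have hV : a * z ∈ C.V1 := ⟨a, ha, z, hz, rfl⟩
  have e1 : (a * z) * E.t * (a * z)⁻¹ = E.xa s * E.xc u * E.t := by
    have : (a * z) * E.t * (a * z)⁻¹ = a * (z * E.t * z⁻¹) * a⁻¹ := by group
    rw [this, hzu, conj_mul_distrib, conj_of_comm (C.Z_A _ (C.memZ u) a ha).symm, has,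
      ← mul_assoc, E.c_a]
  have h2 : (a * z)⁻¹ * y * E.t = E.t * ((a * z)⁻¹ * y) := by
    apply comm_of_conj
    have : (a * z)⁻¹ * y * E.t * ((a * z)⁻¹ * y)⁻¹ = (a * z)⁻¹ * (y * E.t * y⁻¹) * (a * z) := by
      group
    rw [this, he, ← e1]
    group
  rcases h1 _ h2 (fun g hg => by
    have h3 : (a * z)⁻¹ * g = g * (a * z)⁻¹ := comm_inv (C.V1_comm hV (C.E1_le_V1 hg))
    rw [mul_assoc, hy g hg, ← mul_assoc, h3, mul_assoc]) with h3 | h3
  · left
    have : y = (a * z) * ((a * z)⁻¹ * y) := by group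
    rw [this]
    exact C.V1.mul_mem hV (C.E1_le_V1 h3)
  · right
    have h4 := C.t_V1 hV
    have : E.t * y = (E.t * (a * z) * E.t⁻¹) * (E.t * ((a * z)⁻¹ * y)) := by group
    rw [this]
    exact C.V1.mul_mem h4 (C.E1_le_V1 h3)

/-- `N_{C(t)}(E₁)` normalises `V₁`; more generally for a map to another copy. -/
theorem conj_V1 {E' : Base F G} {A' B' Z' : Subgroup G} (C' : Core E' A' B' Z') (ht : E'.t = E.t)
    (h1 : E'.CentOne) {k : G} (hk : k * E.t = E.t * k) (hE : ∀ g ∈ E.E1, k * g * k⁻¹ ∈ E'.E1)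
    (hE' : ∀ g ∈ E'.E1, k⁻¹ * g * k ∈ E.E1) {y : G} (hy : y ∈ C.V1) : k * y * k⁻¹ ∈ C'.V1 := by
  have hki : k⁻¹ * E.t = E.t * k⁻¹ := comm_inv hk
  have hcom : ∀ g ∈ E'.E1, (k * y * k⁻¹) * g = g * (k * y * k⁻¹) := by
    intro g hg
    have h2 := C.V1_comm hy (C.E1_le_V1 (hE' g hg))
    calc (k * y * k⁻¹) * g = k * (y * (k⁻¹ * g * k)) * k⁻¹ := by group
      _ = _ := by rw [h2]; group
  obtain ⟨e, he, hye⟩ : ∃ e ∈ E.E1, y * E.t * y⁻¹ = e * E.t := by
    obtain ⟨a, ha, z, hz, rfl⟩ := hy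
    obtain ⟨s, hs⟩ := C.conjA a ha
    obtain ⟨u, hu⟩ := C.conjZ z hz
    refine ⟨E.xa s * E.xc u, ⟨s, u, rfl⟩, ?_⟩
    have : (a * z) * E.t * (a * z)⁻¹ = a * (z * E.t * z⁻¹) * a⁻¹ := by group
    rw [this, hu, conj_mul_distrib, conj_of_comm (C.Z_A _ (C.memZ u) a ha).symm, hs,
      ← mul_assoc, E.c_a]
  have hact : (k * y * k⁻¹) * E'.t * (k * y * k⁻¹)⁻¹ = (k * e * k⁻¹) * E'.t := by
    rw [ht]
    have e1 : (k * y * k⁻¹) * E.t * (k * y * k⁻¹)⁻¹ = k * (y * (k⁻¹ * E.t * k) * y⁻¹) * k⁻¹ := by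
      group
    rw [e1, conj_of_comm' hk, hye, conj_mul_distrib, conj_of_comm hk]
  rcases C'.mem_V1_or h1 hcom ⟨_, hE e he, hact⟩ with h3 | h3
  · exact h3
  · exfalso
    -- `k y k⁻¹ = t v`
    set v := E'.t * (k * y * k⁻¹) with hv
    have hvt : v * E'.t = E'.t * v := by
      have e1 : (k * y * k⁻¹) * (k * y * k⁻¹) = 1 := by
        have : (k * y * k⁻¹) * (k * y * k⁻¹) = k * (y * y) * k⁻¹ := by group
        rw [this, C.V1_sq hy, mul_one, mul_inv_cancel]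
      have e2 : k * y * k⁻¹ = E'.t * v := by
        rw [hv, ← mul_assoc, E'.t_sq, one_mul]
      rw [e2] at e1
      have e3 : v * E'.t = E'.t⁻¹ * ((E'.t * v) * (E'.t * v)) * v⁻¹ := by group
      rw [e3, e1, mul_one, E'.t_inv, inv_of_sq (C'.V1_sq h3)]
    have h4 := C'.V1_cent h3 hvt
    have h5 : y * E.t = E.t * y := by
      have e2 : k * y * k⁻¹ = E'.t * v := by
        rw [hv, ← mul_assoc, E'.t_sq, one_mul]
      have e3 : (k * y * k⁻¹) * E.t = E.t * (k * y * k⁻¹) := by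
        rw [e2, ← ht, mul_assoc, hvt]
      have e4 : y * E.t = k⁻¹ * ((k * y * k⁻¹) * (k * E.t)) := by group
      rw [e4, hk, ← mul_assoc (k * y * k⁻¹), e3]
      have e5 : k⁻¹ * (E.t * (k * y * k⁻¹) * k) = (k⁻¹ * E.t * k) * y := by group
      rw [e5, conj_of_comm' hk]
    have h6 := hE _ (C.V1_cent hy h5)
    obtain ⟨x, z, h7⟩ := E'.E1.mul_mem h4 (E'.E1.inv_mem h6)
    apply E'.t_not x 0 z
    rw [E'.xb_zero, mul_one, ← h7, hv]
    group

end Core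

end Cfsg.Agent.StdRank2.L3G
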